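import Mathlib
import Cfsg.Agent.ClassicalGeometry.AutPSL.Main
import Cfsg.Agent.FastGrp
import Cfsg.Agent.Prune
set_option linter.all false

section
prune_inst 0x7fffadfbbbffebdfdfff7e7fa696effdfbbb3fffa6dff9cbffe049ff8b9f4b92c9c56b8d8de930fe1ef6621410b87b43fffffeffe26bd87ffffd1ff45ffbee4fe5f7bd08519488340f3c0ffe03f0778e7f3fffffffffffffffffffffffffffbeffbfffffffff

-- part: H943/SL2Rel
section
set_option linter.all false
open scoped Cfsg.Agent.FastGrp

/-!
# Relations in `SL(2, F)` (helper943)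

`u t`, `w`, `h a`; `w u(t) w = u(-1/t) h(-1/t) w u(-1/t)`; generation.
-/

set_option autoImplicit false
set_option linter.unusedSimpArgs false

namespace Cfsg.Agent.H943.SL2Rel

open Matrix

variable {F : Type*} [Field F]

/-- unipotent elements -/
def u (t : F) : SpecialLinearGroup (Fin 2) F := ⟨!![1, t; 0, 1], by simp [Matrix.det_fin_two]⟩

/-- the Weyl element -/
def w : SpecialLinearGroup (Fin 2) F := ⟨!![0, 1; -1, 0], by simp [Matrix.det_fin_two]⟩

/-- the torus -/
def h (a : Fˣ) : SpecialLinearGroup (Fin 2) F :=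
  ⟨!![(a : F), 0; 0, (a : F)⁻¹], by simp [Matrix.det_fin_two]⟩

theorem u_add (s t : F) : u (s + t) = u s * u t := by
  refine Subtype.ext ?_
  show !![1, s + t; 0, 1] = !![1, s; 0, 1] * !![1, t; 0, 1]
  rw [Matrix.mul_fin_two]
  simp [add_comm]

theorem u_zero : u (0 : F) = 1 := by
  refine Subtype.ext ?_
  show !![1, (0 : F); 0, 1] = 1
  rw [Matrix.one_fin_two]

theorem h_mul (a b : Fˣ) : h (a * b) = h a * h b := by
  refine Subtype.ext ?_
  show !![((a * b : Fˣ) : F), 0; 0, ((a * b : Fˣ) : F)⁻¹] = !![(a : F), 0; 0, (a : F)⁻¹] * !![(b : F), 0; 0, (b : F)⁻¹]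
  rw [Matrix.mul_fin_two]
  simp [mul_comm]

theorem h_one : h (1 : Fˣ) = 1 := by
  refine Subtype.ext ?_
  show !![((1 : Fˣ) : F), 0; 0, ((1 : Fˣ) : F)⁻¹] = 1
  rw [Matrix.one_fin_two]
  simp

/-- the torus as a homomorphism -/
def hHom : Fˣ →* SpecialLinearGroup (Fin 2) F where
  toFun := h
  map_one' := h_one
  map_mul' := h_mul

theorem h_inv (a : Fˣ) : h a⁻¹ = (h a)⁻¹ := map_inv hHom a

theorem h_pow (a : Fˣ) (n : ℕ) : h (a ^ n) = h a ^ n := map_pow hHom a n

theorem u_neg (t : F) : u (-t) = (u t)⁻¹ := by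
  rw [eq_inv_iff_mul_eq_one, ← u_add, neg_add_cancel, u_zero]

theorem h_u (a : Fˣ) (t : F) : h a * u t = u ((a : F) ^ 2 * t) * h a := by
  have ha : (a : F) ≠ 0 := a.ne_zero
  refine Subtype.ext ?_
  show !![(a : F), 0; 0, (a : F)⁻¹] * !![1, t; 0, 1] = !![1, (a : F) ^ 2 * t; 0, 1] * !![(a : F), 0; 0, (a : F)⁻¹]
  rw [Matrix.mul_fin_two, Matrix.mul_fin_two]
  congr 1
  ext i j
  fin_cases i <;> fin_cases j <;> simp
  field_simp

theorem h_w (a : Fˣ) : h a * w = w * h a⁻¹ := by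
  refine Subtype.ext ?_
  show !![(a : F), 0; 0, (a : F)⁻¹] * !![0, 1; -1, 0] = !![0, 1; -1, 0] * !![((a⁻¹ : Fˣ) : F), 0; 0, ((a⁻¹ : Fˣ) : F)⁻¹]
  rw [Matrix.mul_fin_two, Matrix.mul_fin_two]
  simp

theorem w_w : (w : SpecialLinearGroup (Fin 2) F) * w = h (-1) := by
  refine Subtype.ext ?_
  show !![(0 : F), 1; -1, 0] * !![0, 1; -1, 0] = !![((-1 : Fˣ) : F), 0; 0, ((-1 : Fˣ) : F)⁻¹]
  rw [Matrix.mul_fin_two]
  simp [inv_neg]

/-- the unit `-1/t` -/
def mi (t : F) (ht : t ≠ 0) : Fˣ := Units.mk0 (-t⁻¹) (neg_ne_zero.2 (inv_ne_zero ht))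

theorem w_u_w (t : F) (ht : t ≠ 0) : w * u t * w = u (-t⁻¹) * h (mi t ht) * w * u (-t⁻¹) := by
  refine Subtype.ext ?_
  show !![(0 : F), 1; -1, 0] * !![1, t; 0, 1] * !![0, 1; -1, 0] =
    !![1, -t⁻¹; 0, 1] * !![-t⁻¹, 0; 0, (-t⁻¹)⁻¹] * !![0, 1; -1, 0] * !![1, -t⁻¹; 0, 1]
  simp only [Matrix.mul_fin_two]
  ext i j
  fin_cases i <;> fin_cases j <;> simp [ht]

/-- Bruhat decomposition -/
theorem bruhat (g : SpecialLinearGroup (Fin 2) F) :
    (∃ a t, g = h a * u t) ∨ ∃ s a t, g = u s * h a * w * u t := by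
  obtain ⟨m, hm⟩ := g
  by_cases hc : m 1 0 = 0
  · left
    have hm' := hm
    rw [Matrix.det_fin_two, hc, mul_zero, sub_zero] at hm'
    have ha : m 0 0 ≠ 0 := left_ne_zero_of_mul_eq_one hm'
    refine ⟨Units.mk0 _ ha, (m 0 0)⁻¹ * m 0 1, ?_⟩
    refine Subtype.ext ?_
    show m = !![m 0 0, 0; 0, (m 0 0)⁻¹] * !![1, (m 0 0)⁻¹ * m 0 1; 0, 1]
    rw [Matrix.mul_fin_two]
    ext i j
    fin_cases i <;> fin_cases j
    · simp
    · simp [ha]
    · simp [hc]
    · simp
      exact eq_inv_of_mul_eq_one_right hm'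
  · right
    have hm' := hm
    rw [Matrix.det_fin_two] at hm'
    refine ⟨m 0 0 * (m 1 0)⁻¹, Units.mk0 (-(m 1 0)⁻¹) (neg_ne_zero.2 (inv_ne_zero hc)), (m 1 0)⁻¹ * m 1 1, ?_⟩
    refine Subtype.ext ?_
    show m = !![1, m 0 0 * (m 1 0)⁻¹; 0, 1] * !![-(m 1 0)⁻¹, 0; 0, (-(m 1 0)⁻¹)⁻¹] * !![0, 1; -1, 0] *
      !![1, (m 1 0)⁻¹ * m 1 1; 0, 1]
    simp only [Matrix.mul_fin_two]
    ext i j
    fin_cases i <;> fin_cases j
    · simp [hc]
    · simp [hc]
      field_simp
      linear_combination -hm'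
    · simp [hc]
    · simp [hc]

/-- induction on `SL(2, F)` -/
theorem induct {P : SpecialLinearGroup (Fin 2) F → Prop} (hu : ∀ t, P (u t)) (hh : ∀ a, P (h a)) (hw : P w)
    (hm : ∀ a b, P a → P b → P (a * b)) (g : SpecialLinearGroup (Fin 2) F) : P g := by
  rcases bruhat g with ⟨a, t, rfl⟩ | ⟨s, a, t, rfl⟩
  · exact hm _ _ (hh a) (hu t)
  · exact hm _ _ (hm _ _ (hm _ _ (hu s) (hh a)) hw) (hu t)

end Cfsg.Agent.H943.SL2Rel

private theorem dce_348e5c98f441 : _root_.True := by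
  try have : _root_.True := by simp only [_root_.Cfsg.Agent.H943.SL2Rel.induct]
  exact _root_.True.intro
end

-- part: H943/RepAdd
section
set_option linter.all false
open scoped Cfsg.Agent.FastGrp

/-!
# Additivity of the multiplicities of eigenvalues (helper943)

* `subRep`, `quotRep`;
* `finrank_eig` : the dimension of the eigenspaces of an element of order prime to the characteristic is additive;
* `exists_irr_sub` : minimal invariant subspaces.
-/

set_option autoImplicit false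

namespace Cfsg.Agent.H943.RepAdd

variable {k : Type*} [Field k] {G : Type*} [Group G]

section

variable {V : Type*} [AddCommGroup V] [Module k V] (ρ : Representation k G V)

/-- the restriction to an invariant subspace -/
def subRep (W : Submodule k V) (hW : ∀ g, ∀ x ∈ W, ρ g x ∈ W) : Representation k G W where
  toFun g := (ρ g).restrict (hW g)
  map_one' := by
    ext x
    simp
  map_mul' a b := by
    ext x
    simp

/-- the quotient by an invariant subspace -/
def quotRep (W : Submodule k V) (hW : ∀ g, ∀ x ∈ W, ρ g x ∈ W) : Representation k G (V ⧸ W) where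
  toFun g := W.mapQ W (ρ g) (hW g)
  map_one' := by
    ext x
    simp
  map_mul' a b := by
    ext x
    simp

theorem coe_subRep (W : Submodule k V) (hW : ∀ g, ∀ x ∈ W, ρ g x ∈ W) (g : G) (x : W) :
    ((subRep ρ W hW g x : W) : V) = ρ g x := rfl

theorem quotRep_mk (W : Submodule k V) (hW : ∀ g, ∀ x ∈ W, ρ g x ∈ W) (g : G) (x : V) :
    quotRep ρ W hW g (W.mkQ x) = W.mkQ (ρ g x) := rfl

/-- the eigenspace of an element -/
def eig (g : G) (μ : k) : Submodule k V := LinearMap.ker (ρ g - μ • (1 : Module.End k V))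

theorem mem_eig {g : G} {μ : k} {x : V} : x ∈ eig ρ g μ ↔ ρ g x = μ • x := by
  unfold eig
  rw [LinearMap.mem_ker, LinearMap.sub_apply, LinearMap.smul_apply, Module.End.one_apply, sub_eq_zero]

theorem pow_apply_eig {g : G} {μ : k} {x : V} (hx : ρ g x = μ • x) (n : ℕ) : (ρ g ^ n) x = μ ^ n • x := by
  induction n with
  | zero => rw [pow_zero, pow_zero, one_smul]; rfl
  | succ n ih =>
    rw [pow_succ, Module.End.mul_apply, hx, map_smul, ih, smul_smul, pow_succ, mul_comm]

/-- the projection to the eigenspace -/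
noncomputable def proj (g : G) (n : ℕ) (μ : k) : Module.End k V :=
  (n : k)⁻¹ • ∑ i ∈ Finset.range n, (μ⁻¹) ^ i • (ρ g) ^ i

theorem proj_apply (g : G) (n : ℕ) (μ : k) (x : V) :
    proj ρ g n μ x = (n : k)⁻¹ • ∑ i ∈ Finset.range n, (μ⁻¹) ^ i • ((ρ g) ^ i) x := by
  simp [proj, LinearMap.sum_apply]

theorem proj_mem {g : G} {n : ℕ} (hg : ρ g ^ n = 1) {μ : k} (hμ : μ ^ n = 1) (hμ0 : μ ≠ 0) (x : V) :
    proj ρ g n μ x ∈ eig ρ g μ := by
  rw [mem_eig, proj_apply, map_smul, map_sum, smul_comm μ]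
  congr 1
  rw [Finset.smul_sum]
  have h1 : ∀ i, ρ g ((μ⁻¹) ^ i • ((ρ g) ^ i) x) = μ • ((μ⁻¹) ^ (i + 1) • ((ρ g) ^ (i + 1)) x) := by
    intro i
    rw [map_smul, ← Module.End.mul_apply, ← pow_succ', smul_smul μ, pow_succ (μ⁻¹), mul_comm μ, mul_assoc,
      inv_mul_cancel₀ hμ0, mul_one]
  rw [Finset.sum_congr rfl fun i _ => h1 i, ← Finset.smul_sum, ← Finset.smul_sum]
  congr 1
  have h2 := Finset.sum_range_succ (fun i => (μ⁻¹) ^ i • ((ρ g) ^ i) x) n
  rw [Finset.sum_range_succ'] at h2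
  have h3 : (μ⁻¹) ^ n • ((ρ g) ^ n) x = (μ⁻¹) ^ 0 • ((ρ g) ^ 0) x := by
    rw [inv_pow, hμ, hg, inv_one, pow_zero, pow_zero]
  rw [h3] at h2
  exact add_right_cancel h2

theorem proj_of_mem {g : G} {n : ℕ} (hn : (n : k) ≠ 0) {μ : k} (hμ0 : μ ≠ 0) {x : V}
    (hx : x ∈ eig ρ g μ) : proj ρ g n μ x = x := by
  rw [mem_eig] at hx
  rw [proj_apply]
  have h1 : ∀ i ∈ Finset.range n, (μ⁻¹) ^ i • ((ρ g) ^ i) x = x := by
    intro i _
    rw [pow_apply_eig ρ hx, smul_smul, ← mul_pow, inv_mul_cancel₀ hμ0, one_pow, one_smul]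
  rw [Finset.sum_congr rfl h1, Finset.sum_const, Finset.card_range, ← Nat.cast_smul_eq_nsmul k, smul_smul,
    inv_mul_cancel₀ hn, one_smul]

variable [FiniteDimensional k V]

/-- **the dimensions of the eigenspaces are additive** -/
theorem finrank_eig (W : Submodule k V) (hW : ∀ g, ∀ x ∈ W, ρ g x ∈ W) {g : G} {n : ℕ} (hg : ρ g ^ n = 1)
    (hn : (n : k) ≠ 0) {μ : k} (hμ : μ ^ n = 1) (hμ0 : μ ≠ 0) :
    Module.finrank k (eig ρ g μ) = Module.finrank k (eig (subRep ρ W hW) g μ) +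
      Module.finrank k (eig (quotRep ρ W hW) g μ) := by
  have hmap : ∀ x ∈ eig ρ g μ, W.mkQ x ∈ eig (quotRep ρ W hW) g μ := by
    intro x hx
    rw [mem_eig] at hx ⊢
    rw [quotRep_mk, hx, map_smul]
  let f : eig ρ g μ →ₗ[k] eig (quotRep ρ W hW) g μ := W.mkQ.restrict hmap
  have hf : Function.Surjective f := by
    rintro ⟨y, hy⟩
    obtain ⟨v, rfl⟩ := W.mkQ_surjective y
    refine ⟨⟨proj ρ g n μ v, proj_mem ρ hg hμ hμ0 v⟩, Subtype.ext ?_⟩
    show W.mkQ (proj ρ g n μ v) = W.mkQ v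
    have h1 : W.mkQ (proj ρ g n μ v) = proj (quotRep ρ W hW) g n μ (W.mkQ v) := by
      rw [proj_apply, proj_apply, map_smul, map_sum]
      congr 1
      refine Finset.sum_congr rfl fun i _ => ?_
      rw [map_smul]
      congr 1
      rw [← map_pow, ← map_pow, quotRep_mk]
    rw [h1, proj_of_mem _ hn hμ0 hy]
  have hk : Module.finrank k (LinearMap.ker f) = Module.finrank k (eig (subRep ρ W hW) g μ) := by
    refine LinearEquiv.finrank_eq (LinearEquiv.ofBijective
      ({ toFun := fun x => ⟨⟨(x : eig ρ g μ), ?_⟩, ?_⟩, map_add' := fun x y => rfl, map_smul' := fun c x => rfl } :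
        LinearMap.ker f →ₗ[k] eig (subRep ρ W hW) g μ) ⟨?_, ?_⟩)
    · have h1 : f x = 0 := x.2
      have h2 : W.mkQ ((x : eig ρ g μ) : V) = 0 := congrArg Subtype.val h1
      rwa [Submodule.mkQ_apply, Submodule.Quotient.mk_eq_zero] at h2
    · rw [mem_eig]
      apply Subtype.ext
      show ρ g ((x : eig ρ g μ) : V) = μ • ((x : eig ρ g μ) : V)
      exact (mem_eig ρ).1 (x : eig ρ g μ).2
    · intro x y e
      apply Subtype.ext
      apply Subtype.ext
      exact congrArg (fun z => ((z : W) : V)) (congrArg Subtype.val e)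
    · rintro ⟨⟨x, hxW⟩, hx⟩
      have hx' : x ∈ eig ρ g μ := by
        rw [mem_eig] at hx ⊢
        exact congrArg Subtype.val hx
      refine ⟨⟨⟨x, hx'⟩, ?_⟩, rfl⟩
      show f ⟨x, hx'⟩ = 0
      apply Subtype.ext
      show W.mkQ x = 0
      rwa [Submodule.mkQ_apply, Submodule.Quotient.mk_eq_zero]
  have h1 := LinearMap.finrank_range_add_finrank_ker f
  rw [LinearMap.range_eq_top.2 hf, finrank_top, hk] at h1
  omega

/-- **minimal invariant subspaces** -/
theorem exists_irr_sub [Nontrivial V] : ∃ (W : Submodule k V) (_ : ∀ g, ∀ x ∈ W, ρ g x ∈ W), W ≠ ⊥ ∧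
    ∀ W' ≤ W, (∀ g, ∀ x ∈ W', ρ g x ∈ W') → W' = ⊥ ∨ W' = W := by
  obtain ⟨W, ⟨h1, h2⟩, hmin⟩ := (wellFounded_lt (α := Submodule k V)).has_min
    {W : Submodule k V | W ≠ ⊥ ∧ ∀ g, ∀ x ∈ W, ρ g x ∈ W} ⟨⊤, top_ne_bot, fun _ _ _ => Submodule.mem_top⟩
  refine ⟨W, h2, h1, fun W' hle hW' => ?_⟩
  by_contra hcon
  push Not at hcon
  exact hmin W' ⟨hcon.1, hW'⟩ (lt_of_le_of_ne hle hcon.2)

end

end Cfsg.Agent.H943.RepAdd

private theorem dce_dab7d2930687 : _root_.True := by
  try have : _root_.True := by simp only [_root_.Cfsg.Agent.H943.RepAdd.proj.eq_1]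
  exact _root_.True.intro
end

-- part: H943/SL2End
section
prune_inst 0x520004000000200001800129000004040000402004300008a400604030000602941262120f000101890005440010000001000100020000000000800011900800000100691480008020008000880000000000000000000000000000000000000000000000
set_option linter.all false
open scoped Cfsg.Agent.FastGrp

-- part: H943/SL2Fix
section
/-!
# Fixed vectors of unipotent groups (helper943)

* `exists_fixed` : finitely many commuting operators `A` with `A ^ p = 1` on a nonzero space of characteristic `p` have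
  a common nonzero fixed vector;
* `exists_fixed_dual` : the same for functionals.
-/

set_option autoImplicit false

namespace Cfsg.Agent.H943.SL2Fix

variable {k : Type*} [Field k] (p : ℕ) [Fact p.Prime] [CharP k p]

theorem nilp {V : Type*} [AddCommGroup V] [Module k V] {A : Module.End k V} (hA : A ^ p = 1) :
    (A - 1) ^ p = 0 := by
  rcases subsingleton_or_nontrivial V with hV | hV
  · exact Subsingleton.elim _ _
  · have : CharP (Module.End k V) p := charP_of_injective_algebraMap (algebraMap k (Module.End k V)).injective p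
    rw [sub_pow_char_of_commute _ (Commute.one_right A), hA, one_pow, sub_self]

/-- **commuting operators of order `p` have a common fixed vector** -/
theorem exists_fixed {V : Type*} [AddCommGroup V] [Module k V] [Nontrivial V] {ι : Type*} (A : ι → Module.End k V)
    (hc : ∀ i j, Commute (A i) (A j)) (hA : ∀ i, A i ^ p = 1) (s : Finset ι) :
    ∃ v : V, v ≠ 0 ∧ ∀ i ∈ s, A i v = v := by
  classical
  induction s using Finset.induction_on with
  | empty =>
    obtain ⟨v, hv⟩ := exists_ne (0 : V)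
    exact ⟨v, hv, fun i hi => absurd hi (Finset.notMem_empty i)⟩
  | insert i s hi ih =>
    obtain ⟨v, hv, hs⟩ := ih
    have hex : ∃ n : ℕ, ((A i - 1) ^ n : Module.End k V) v = 0 := ⟨p, by rw [nilp p (hA i)]; rfl⟩
    have h0 : Nat.find hex ≠ 0 := by
      intro h0
      have h1 := Nat.find_spec hex
      rw [h0, pow_zero] at h1
      exact hv h1
    obtain ⟨n, hn⟩ := Nat.exists_eq_succ_of_ne_zero h0
    have hn1 : ((A i - 1) ^ n : Module.End k V) v ≠ 0 := Nat.find_min hex (by rw [hn]; exact Nat.lt_succ_self n)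
    have hn2 : ((A i - 1) ^ (n + 1) : Module.End k V) v = 0 := by
      have := Nat.find_spec hex
      rwa [hn] at this
    refine ⟨((A i - 1) ^ n : Module.End k V) v, hn1, fun j hj => ?_⟩
    rcases Finset.mem_insert.1 hj with rfl | hj
    · rw [pow_succ', Module.End.mul_apply, LinearMap.sub_apply, Module.End.one_apply, sub_eq_zero] at hn2
      exact hn2
    · have h1 : Commute (A j) ((A i - 1) ^ n) := ((hc j i).sub_right (Commute.one_right _)).pow_right n
      calc A j (((A i - 1) ^ n : Module.End k V) v) = (A j * (A i - 1) ^ n : Module.End k V) v := rfl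
        _ = ((A i - 1) ^ n * A j : Module.End k V) v := by rw [h1.eq]
        _ = ((A i - 1) ^ n : Module.End k V) (A j v) := rfl
        _ = ((A i - 1) ^ n : Module.End k V) v := by rw [hs j hj]

/-- **commuting operators of order `p` have a common fixed functional** -/
theorem exists_fixed_dual {V : Type*} [AddCommGroup V] [Module k V] [Nontrivial V] {ι : Type*} (A : ι → Module.End k V)
    (hc : ∀ i j, Commute (A i) (A j)) (hA : ∀ i, A i ^ p = 1) (s : Finset ι) :
    ∃ f : Module.Dual k V, f ≠ 0 ∧ ∀ i ∈ s, ∀ v, f (A i v) = f v := by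
  have hm : ∀ (B : Module.End k V) (n : ℕ), (Module.Dual.transpose (R := k) B : Module.End k (Module.Dual k V)) ^ n =
      Module.Dual.transpose (R := k) (B ^ n) := by
    intro B n
    induction n with
    | zero => rfl
    | succ n ih => rw [pow_succ, ih, pow_succ']; rfl
  obtain ⟨f, hf, h⟩ := exists_fixed p (k := k) (V := Module.Dual k V)
    (fun i => (Module.Dual.transpose (R := k) (A i) : Module.End k (Module.Dual k V)))
    (fun i j => by
      show Module.Dual.transpose (R := k) (A i) * Module.Dual.transpose (R := k) (A j) =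
        Module.Dual.transpose (R := k) (A j) * Module.Dual.transpose (R := k) (A i)
      have h1 : ∀ B C : Module.End k V, (Module.Dual.transpose (R := k) B : Module.End k (Module.Dual k V)) *
        Module.Dual.transpose (R := k) C = Module.Dual.transpose (R := k) (C * B) := fun B C => rfl
      rw [h1, h1, (hc i j).eq])
    (fun i => by
      show (Module.Dual.transpose (R := k) (A i) : Module.End k (Module.Dual k V)) ^ p = 1
      rw [hm, hA]
      rfl) s
  exact ⟨f, hf, fun i hi v => DFunLike.congr_fun (h i hi) v⟩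

end Cfsg.Agent.H943.SL2Fix
end

-- part: H943/SL2Mod
section
/-!
# Modules for `SL(2, F)` in the defining characteristic (helper943)

`D` : a space of `U`-fixed vectors, stable under the torus, on which `S = ∑ u(t) w` is the scalar `c`.
* `le_MM`, `inv_MM` : `D` generates the module `k[U] w D`;
* `exists_iso` : irreducible modules containing isomorphic such `D` are isomorphic (graph argument).
-/

set_option autoImplicit false
set_option linter.unusedSectionVars false

namespace Cfsg.Agent.H943.SL2Mod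

open Matrix Cfsg.Agent.H943.SL2Rel

variable {k : Type*} [Field k] {F : Type*} [Field F]

section Basic

variable {V : Type*} [AddCommGroup V] [Module k V] (ρ : Representation k (_root_.Matrix.SpecialLinearGroup (Fin 2) F) V)

/-- invariant subspaces -/
def Inv (W : Submodule k V) : Prop := ∀ g, ∀ x ∈ W, ρ g x ∈ W

/-- subspaces stable under the torus -/
def TInv (D : Submodule k V) : Prop := ∀ a : Fˣ, ∀ d ∈ D, ρ (h a) d ∈ D

/-- subspaces fixed by the unipotent group -/
def UFix (D : Submodule k V) : Prop := ∀ t : F, ∀ d ∈ D, ρ (u t) d = d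

/-- irreducible representations -/
def Irr : Prop := Nontrivial V ∧ ∀ W : Submodule k V, Inv ρ W → W = ⊥ ∨ W = ⊤

/-- minimal subspaces stable under the torus -/
def TSimple (D : Submodule k V) : Prop := D ≠ ⊥ ∧ TInv ρ D ∧ ∀ D' ≤ D, TInv ρ D' → D' = ⊥ ∨ D' = D

/-- the space `k[U] w D` -/
def MM (D : Submodule k V) : Submodule k V := Submodule.span k {x | ∃ t : F, ∃ d ∈ D, x = ρ (u t) (ρ w d)}

theorem mem_MM {D : Submodule k V} (t : F) {d : V} (hd : d ∈ D) : ρ (u t) (ρ w d) ∈ MM ρ D :=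
  Submodule.subset_span ⟨t, d, hd, rfl⟩

theorem MM_le {D W : Submodule k V} (hW : Inv ρ W) (h : D ≤ W) : MM ρ D ≤ W := by
  refine Submodule.span_le.2 ?_
  rintro x ⟨t, d, hd, rfl⟩
  exact hW _ _ (hW _ _ (h hd))

theorem apply_mul (a b : _root_.Matrix.SpecialLinearGroup (Fin 2) F) (v : V) : ρ a (ρ b v) = ρ (a * b) v := by
  rw [map_mul]; rfl

theorem apply_mul3 (a b c : _root_.Matrix.SpecialLinearGroup (Fin 2) F) (v : V) : ρ a (ρ b (ρ c v)) = ρ (a * b * c) v := by
  rw [map_mul, map_mul]; rfl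

variable [Fintype F]

/-- `S = ∑ u(t) w` -/
def SS : V →ₗ[k] V := ∑ t : F, (ρ (u t)) ∘ₗ (ρ w)

theorem SS_apply (v : V) : SS ρ v = ∑ t : F, ρ (u t) (ρ w v) := by
  simp only [SS, _root_.LinearMap.coe_sum, _root_.LinearMap.coe_comp, _root_.Finset.sum_apply, _root_.Function.comp_apply]

/-- the standard hypotheses -/
structure Good (D : Submodule k V) (c : k) : Prop where
  tinv : TInv ρ D
  ufix : UFix ρ D
  ss : ∀ d ∈ D, SS ρ d = c • d

omit [Fintype F] in
theorem wuw {D : Submodule k V} (hU : UFix ρ D) {t : F} (ht : t ≠ 0) {d : V} (hd : d ∈ D) :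
    ρ w (ρ (u t) (ρ w d)) = ρ (u (-t⁻¹)) (ρ w (ρ (h (mi t ht)⁻¹) d)) := by
  rw [apply_mul3, w_u_w t ht, mul_assoc (u (-t⁻¹)), h_w, map_mul, map_mul, map_mul]
  show ρ (u (-t⁻¹)) (ρ w (ρ (h (mi t ht)⁻¹) (ρ (u (-t⁻¹)) d))) = _
  rw [hU _ d hd]

omit [Fintype F] in
theorem ww (d : V) : ρ w (ρ w d) = ρ (h (-1)) d := by
  rw [apply_mul, w_w]

omit [Fintype F] in
theorem hh (d : V) : ρ (h (-1)) (ρ (h (-1)) d) = d := by
  rw [apply_mul, ← h_mul, neg_mul_neg, one_mul, h_one, map_one]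
  rfl

theorem le_MM {D : Submodule k V} {c : k} (G : Good ρ D c) : D ≤ MM ρ D := by
  classical
  intro d hd
  by_cases hc : c = 0
  · have key : ∀ d ∈ D, ρ (h (-1)) d ∈ MM ρ D := by
      intro d hd
      have h1 : SS ρ d = 0 := by rw [G.ss d hd, hc, zero_smul]
      rw [SS_apply] at h1
      have h2 := congrArg (ρ w) h1
      rw [map_zero, map_sum, ← Finset.add_sum_erase _ _ (Finset.mem_univ (0 : F)), u_zero, map_one,
        Module.End.one_apply, ww] at h2
      rw [eq_neg_of_add_eq_zero_left h2]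
      refine neg_mem (sum_mem fun t ht => ?_)
      rw [wuw ρ G.ufix (Finset.ne_of_mem_erase ht) hd]
      exact mem_MM ρ _ (G.tinv _ _ hd)
    have h3 := key _ (G.tinv (-1) d hd)
    rwa [hh] at h3
  · have h1 : d = c⁻¹ • SS ρ d := by rw [G.ss d hd, smul_smul, inv_mul_cancel₀ hc, one_smul]
    rw [h1, SS_apply]
    exact Submodule.smul_mem _ _ (sum_mem fun t _ => mem_MM ρ _ hd)

theorem inv_MM {D : Submodule k V} {c : k} (G : Good ρ D c) : Inv ρ (MM ρ D) := by
  have key : ∀ g, (∀ t : F, ∀ d ∈ D, ρ g (ρ (u t) (ρ w d)) ∈ MM ρ D) → ∀ x ∈ MM ρ D, ρ g x ∈ MM ρ D := by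
    intro g hg x hx
    have h1 : MM ρ D ≤ (MM ρ D).comap (ρ g) := Submodule.span_le.2 (by
      rintro x ⟨t, d, hd, rfl⟩
      exact hg t d hd)
    exact h1 hx
  intro g
  refine induct (P := fun g => ∀ x ∈ MM ρ D, ρ g x ∈ MM ρ D) ?_ ?_ ?_ ?_ g
  · intro s
    refine key _ fun t d hd => ?_
    rw [apply_mul, ← u_add]
    exact mem_MM ρ _ hd
  · intro a
    refine key _ fun t d hd => ?_
    rw [apply_mul3, h_u, mul_assoc, h_w, map_mul, map_mul]
    exact mem_MM ρ _ (G.tinv _ _ hd)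
  · refine key _ fun t d hd => ?_
    by_cases ht : t = 0
    · subst ht
      rw [u_zero, map_one, Module.End.one_apply, ww]
      exact le_MM ρ G (G.tinv _ _ hd)
    · rw [wuw ρ G.ufix ht hd]
      exact mem_MM ρ _ (G.tinv _ _ hd)
  · intro a b ha hb x hx
    rw [map_mul]
    exact ha _ (hb _ hx)

theorem MM_eq_top {D : Submodule k V} {c : k} (G : Good ρ D c) (hD : D ≠ ⊥) (hI : Irr ρ) : MM ρ D = ⊤ := by
  rcases hI.2 _ (inv_MM ρ G) with h1 | h1
  · exact absurd (le_bot_iff.1 (h1 ▸ le_MM ρ G)) hD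
  · exact h1

/-! ### coinvariants -/

omit [Fintype F] in
theorem comm_u (s t : F) : Commute (ρ (u s)) (ρ (u t)) := by
  show ρ (u s) * ρ (u t) = ρ (u t) * ρ (u s)
  rw [← map_mul, ← map_mul, ← u_add, ← u_add, add_comm]

omit [Fintype F] in
theorem u_pow (t : F) (n : ℕ) : u t ^ n = u ((n : F) * t) := by
  induction n with
  | zero => rw [Nat.cast_zero, zero_mul, u_zero, pow_zero]
  | succ n ih => rw [pow_succ, ih, ← u_add, Nat.cast_succ, add_mul, one_mul]

variable (p : ℕ) [Fact p.Prime] [CharP k p] [CharP F p]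

omit [Fintype F] [Fact p.Prime] [CharP k p] in
theorem u_pow_p (t : F) : ρ (u t) ^ p = 1 := by
  rw [← map_pow, u_pow, CharP.cast_eq_zero, zero_mul, u_zero, map_one]

include p in
theorem exists_ufix [Nontrivial V] : ∃ v : V, v ≠ 0 ∧ ∀ t : F, ρ (u t) v = v := by
  obtain ⟨v, hv, hs⟩ := SL2Fix.exists_fixed p (fun t : F => (ρ (u t) : Module.End k V)) (comm_u ρ) (u_pow_p ρ p)
    Finset.univ
  exact ⟨v, hv, fun t => hs t (Finset.mem_univ t)⟩

include p in
/-- a proper subspace containing all `u v - v`, stable under the torus -/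
theorem exists_coinv [Nontrivial V] : ∃ I : Submodule k V, I ≠ ⊤ ∧ TInv ρ I ∧ ∀ (t : F) (v : V), ρ (u t) v - v ∈ I := by
  obtain ⟨f, hf, hs⟩ := SL2Fix.exists_fixed_dual p (fun t : F => (ρ (u t) : Module.End k V)) (comm_u ρ) (u_pow_p ρ p)
    Finset.univ
  refine ⟨Submodule.span k {x | ∃ (t : F) (v : V), x = ρ (u t) v - v}, ?_, ?_, fun t v =>
    Submodule.subset_span ⟨t, v, rfl⟩⟩
  · intro htop
    apply hf
    ext v
    have h1 : Submodule.span k {x | ∃ (t : F) (v : V), x = ρ (u t) v - v} ≤ LinearMap.ker f := Submodule.span_le.2 (by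
      rintro x ⟨t, v, rfl⟩
      show f (ρ (u t) v - v) = 0
      rw [map_sub, hs t (Finset.mem_univ t) v, sub_self])
    rw [htop] at h1
    exact h1 (Submodule.mem_top : v ∈ ⊤)
  · intro a x hx
    have h1 : Submodule.span k {x | ∃ (t : F) (v : V), x = ρ (u t) v - v} ≤
        (Submodule.span k {x | ∃ (t : F) (v : V), x = ρ (u t) v - v}).comap (ρ (h a)) := Submodule.span_le.2 (by
      rintro x ⟨t, v, rfl⟩
      refine Submodule.subset_span ⟨(a : F) ^ 2 * t, ρ (h a) v, ?_⟩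
      rw [map_sub, apply_mul, apply_mul, h_u])
    exact h1 hx

/-- modulo the coinvariants every element of `k[U] w D` is in `w D` -/
theorem exists_sub_mem {D I : Submodule k V} (hI : ∀ (t : F) (v : V), ρ (u t) v - v ∈ I) {x : V} (hx : x ∈ MM ρ D) :
    ∃ d ∈ D, x - ρ w d ∈ I := by
  have h1 : MM ρ D ≤ I ⊔ D.map (ρ w) := Submodule.span_le.2 (by
    rintro x ⟨t, d, hd, rfl⟩
    have e : ρ (u t) (ρ w d) = (ρ (u t) (ρ w d) - ρ w d) + ρ w d := by abel
    rw [e]
    exact Submodule.add_mem_sup (hI _ _) (Submodule.mem_map_of_mem hd))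
  obtain ⟨y, hy, z, hz, rfl⟩ := Submodule.mem_sup.1 (h1 hx)
  obtain ⟨d, hd, rfl⟩ := Submodule.mem_map.1 hz
  exact ⟨d, hd, by rwa [add_sub_cancel_right]⟩

end Basic

/-! ### the graph argument -/

section Graph

variable {V₁ V₂ : Type*} [AddCommGroup V₁] [Module k V₁] [AddCommGroup V₂] [Module k V₂]
  (ρ₁ : Representation k (_root_.Matrix.SpecialLinearGroup (Fin 2) F) V₁) (ρ₂ : Representation k (_root_.Matrix.SpecialLinearGroup (Fin 2) F) V₂)

/-- the product representation -/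
def prodRep : Representation k (_root_.Matrix.SpecialLinearGroup (Fin 2) F) (V₁ × V₂) where
  toFun g := (ρ₁ g).prodMap (ρ₂ g)
  map_one' := by rw [map_one, map_one]; rfl
  map_mul' a b := by rw [map_mul, map_mul]; rfl

theorem prodRep_apply (g : _root_.Matrix.SpecialLinearGroup (Fin 2) F) (x : V₁ × V₂) :
    prodRep ρ₁ ρ₂ g x = (ρ₁ g x.1, ρ₂ g x.2) := rfl

variable [Fintype F] (p : ℕ) [Fact p.Prime] [CharP k p] [CharP F p]

include p in
theorem MM_ne_top {Γ : Submodule k (V₁ × V₂)} [Nontrivial V₁] [Nontrivial V₂]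
    (hΓ : TSimple (prodRep ρ₁ ρ₂) Γ) : MM (prodRep ρ₁ ρ₂) Γ ≠ ⊤ := by
  intro htop
  obtain ⟨I₁, hI₁, hT₁, hu₁⟩ := exists_coinv ρ₁ p
  obtain ⟨I₂, hI₂, hT₂, hu₂⟩ := exists_coinv ρ₂ p
  obtain ⟨m₁, -, hm₁⟩ := SetLike.exists_of_lt (lt_top_iff_ne_top.2 hI₁)
  obtain ⟨m₂, -, hm₂⟩ := SetLike.exists_of_lt (lt_top_iff_ne_top.2 hI₂)
  have hI : ∀ (t : F) (v : V₁ × V₂), prodRep ρ₁ ρ₂ (u t) v - v ∈ I₁.prod I₂ := fun t v => ⟨hu₁ t v.1, hu₂ t v.2⟩
  -- the subspaces of `Γ`
  have key : ∀ J : Submodule k (V₁ × V₂), TInv (prodRep ρ₁ ρ₂) J →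
      TInv (prodRep ρ₁ ρ₂) (Γ ⊓ J.comap (prodRep ρ₁ ρ₂ w)) := by
    intro J hJ a x hx
    refine ⟨hΓ.2.1 a x hx.1, ?_⟩
    show prodRep ρ₁ ρ₂ w (prodRep ρ₁ ρ₂ (h a) x) ∈ J
    have h1 : (w : _root_.Matrix.SpecialLinearGroup (Fin 2) F) * h a = h a⁻¹ * w := by rw [h_w, inv_inv]
    rw [apply_mul, h1, map_mul]
    exact hJ _ _ hx.2
  have hJ₁ : TInv (prodRep ρ₁ ρ₂) (I₁.prod (⊤ : Submodule k V₂)) := fun a x hx => ⟨hT₁ a _ hx.1, Submodule.mem_top⟩
  have hJ₂ : TInv (prodRep ρ₁ ρ₂) ((⊤ : Submodule k V₁).prod I₂) := fun a x hx => ⟨Submodule.mem_top, hT₂ a _ hx.2⟩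
  have hmem : ∀ x, x ∈ MM (prodRep ρ₁ ρ₂) Γ := fun x => htop ▸ Submodule.mem_top
  obtain ⟨d₁, hd₁, he₁⟩ := exists_sub_mem (prodRep ρ₁ ρ₂) hI (hmem (m₁, 0))
  obtain ⟨d₂, hd₂, he₂⟩ := exists_sub_mem (prodRep ρ₁ ρ₂) hI (hmem (0, m₂))
  -- `d₁` is in the second subspace, not in the first one
  have a1 : d₁ ∈ Γ ⊓ (((⊤ : Submodule k V₁).prod I₂).comap (prodRep ρ₁ ρ₂ w)) := by
    refine ⟨hd₁, Submodule.mem_top, ?_⟩
    have h1 : (0 : V₂) - (prodRep ρ₁ ρ₂ w d₁).2 ∈ I₂ := he₁.2
    rw [zero_sub] at h1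
    exact neg_mem_iff.1 h1
  have a2 : d₂ ∈ Γ ⊓ ((I₁.prod (⊤ : Submodule k V₂)).comap (prodRep ρ₁ ρ₂ w)) := by
    refine ⟨hd₂, ?_, Submodule.mem_top⟩
    have h1 : (0 : V₁) - (prodRep ρ₁ ρ₂ w d₂).1 ∈ I₁ := he₂.1
    rw [zero_sub] at h1
    exact neg_mem_iff.1 h1
  have hne : d₂ ≠ 0 := by
    rintro rfl
    have h1 : m₂ - (prodRep ρ₁ ρ₂ w 0).2 ∈ I₂ := he₂.2
    rw [map_zero] at h1
    exact hm₂ (by simpa using h1)
  rcases hΓ.2.2 _ inf_le_left (key _ hJ₁) with h1 | h1
  · rw [h1] at a2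
    exact hne ((Submodule.mem_bot k).1 a2)
  · have h2 : d₁ ∈ Γ ⊓ ((I₁.prod (⊤ : Submodule k V₂)).comap (prodRep ρ₁ ρ₂ w)) := by rw [h1]; exact hd₁
    have h3 : (prodRep ρ₁ ρ₂ w d₁).1 ∈ I₁ := h2.2.1
    have h4 : m₁ - (prodRep ρ₁ ρ₂ w d₁).1 ∈ I₁ := he₁.1
    exact hm₁ (by simpa using add_mem h4 h3)

include p in
/-- **the graph argument** -/
theorem exists_iso {Γ : Submodule k (V₁ × V₂)} {c : k} (G : Good (prodRep ρ₁ ρ₂) Γ c)
    (hΓ : TSimple (prodRep ρ₁ ρ₂) Γ) (hI₁ : Irr ρ₁) (hI₂ : Irr ρ₂) (h₁ : ∃ x ∈ Γ, x.1 ≠ 0) (h₂ : ∃ x ∈ Γ, x.2 ≠ 0) :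
    ∃ φ : V₁ ≃ₗ[k] V₂, (∀ g x, φ (ρ₁ g x) = ρ₂ g (φ x)) ∧ ∀ x ∈ Γ, φ x.1 = x.2 := by
  have := hI₁.1
  have := hI₂.1
  set N := MM (prodRep ρ₁ ρ₂) Γ with hN
  have hNi : Inv (prodRep ρ₁ ρ₂) N := inv_MM _ G
  have hΓN : Γ ≤ N := le_MM _ G
  have hNt : N ≠ ⊤ := MM_ne_top ρ₁ ρ₂ p hΓ
  -- projections
  have hf : N.map (LinearMap.fst k V₁ V₂) = ⊤ := by
    refine (hI₁.2 _ ?_).resolve_left ?_
    · rintro g _ ⟨x, hx, rfl⟩
      exact ⟨_, hNi g x hx, rfl⟩
    · obtain ⟨x, hx, hx1⟩ := h₁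
      intro h0
      have : x.1 ∈ N.map (LinearMap.fst k V₁ V₂) := ⟨x, hΓN hx, rfl⟩
      rw [h0] at this
      exact hx1 ((Submodule.mem_bot k).1 this)
  have hs : N.map (LinearMap.snd k V₁ V₂) = ⊤ := by
    refine (hI₂.2 _ ?_).resolve_left ?_
    · rintro g _ ⟨x, hx, rfl⟩
      exact ⟨_, hNi g x hx, rfl⟩
    · obtain ⟨x, hx, hx1⟩ := h₂
      intro h0
      have : x.2 ∈ N.map (LinearMap.snd k V₁ V₂) := ⟨x, hΓN hx, rfl⟩
      rw [h0] at this
      exact hx1 ((Submodule.mem_bot k).1 this)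
  -- kernels
  have hl : N.comap (LinearMap.inl k V₁ V₂) = ⊥ := by
    refine (hI₁.2 _ ?_).resolve_right ?_
    · intro g x hx
      have h1 := hNi g _ hx
      show ((ρ₁ g x, 0) : V₁ × V₂) ∈ N
      have h2 : prodRep ρ₁ ρ₂ g (LinearMap.inl k V₁ V₂ x) = (ρ₁ g x, 0) := by
        rw [prodRep_apply]; simp
      rwa [h2] at h1
    · intro h0
      apply hNt
      rw [eq_top_iff]
      rintro ⟨x, y⟩ -
      have h1 : y ∈ N.map (LinearMap.snd k V₁ V₂) := hs ▸ Submodule.mem_top
      obtain ⟨⟨x', y'⟩, hx', e⟩ := h1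
      have e' : y' = y := e
      subst e'
      have h2 : x - x' ∈ N.comap (LinearMap.inl k V₁ V₂) := h0 ▸ Submodule.mem_top
      have h3 : ((x - x', 0) : V₁ × V₂) ∈ N := h2
      have h4 := add_mem h3 hx'
      simpa using h4
  have hr : N.comap (LinearMap.inr k V₁ V₂) = ⊥ := by
    refine (hI₂.2 _ ?_).resolve_right ?_
    · intro g x hx
      have h1 := hNi g _ hx
      show ((0, ρ₂ g x) : V₁ × V₂) ∈ N
      have h2 : prodRep ρ₁ ρ₂ g (LinearMap.inr k V₁ V₂ x) = (0, ρ₂ g x) := by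
        rw [prodRep_apply]; simp only [_root_.LinearMap.coe_inr, _root_.map_zero]
      rwa [h2] at h1
    · intro h0
      apply hNt
      rw [eq_top_iff]
      rintro ⟨x, y⟩ -
      have h1 : x ∈ N.map (LinearMap.fst k V₁ V₂) := hf ▸ Submodule.mem_top
      obtain ⟨⟨x', y'⟩, hx', e⟩ := h1
      have e' : x' = x := e
      subst e'
      have h2 : y - y' ∈ N.comap (LinearMap.inr k V₁ V₂) := h0 ▸ Submodule.mem_top
      have h3 : ((0, y - y') : V₁ × V₂) ∈ N := h2
      have h4 := add_mem h3 hx'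
      simpa using h4
  -- the equivalences
  let f₁ : N →ₗ[k] V₁ := (LinearMap.fst k V₁ V₂) ∘ₗ N.subtype
  let f₂ : N →ₗ[k] V₂ := (LinearMap.snd k V₁ V₂) ∘ₗ N.subtype
  have b₁ : Function.Bijective f₁ := by
    constructor
    · rw [← LinearMap.ker_eq_bot, LinearMap.ker_eq_bot']
      rintro ⟨⟨x, y⟩, hxy⟩ e
      have e' : x = 0 := e
      subst e'
      have h1 : y ∈ N.comap (LinearMap.inr k V₁ V₂) := hxy
      rw [hr] at h1
      have h2 : y = 0 := (Submodule.mem_bot k).1 h1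
      subst h2
      rfl
    · intro x
      have h1 : x ∈ N.map (LinearMap.fst k V₁ V₂) := hf ▸ Submodule.mem_top
      obtain ⟨y, hy, e⟩ := h1
      exact ⟨⟨y, hy⟩, e⟩
  have b₂ : Function.Bijective f₂ := by
    constructor
    · rw [← LinearMap.ker_eq_bot, LinearMap.ker_eq_bot']
      rintro ⟨⟨x, y⟩, hxy⟩ e
      have e' : y = 0 := e
      subst e'
      have h1 : x ∈ N.comap (LinearMap.inl k V₁ V₂) := hxy
      rw [hl] at h1
      have h2 : x = 0 := (Submodule.mem_bot k).1 h1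
      subst h2
      rfl
    · intro x
      have h1 : x ∈ N.map (LinearMap.snd k V₁ V₂) := hs ▸ Submodule.mem_top
      obtain ⟨y, hy, e⟩ := h1
      exact ⟨⟨y, hy⟩, e⟩
  let e₁ := LinearEquiv.ofBijective f₁ b₁
  let e₂ := LinearEquiv.ofBijective f₂ b₂
  have hφ : ∀ x : N, (e₁.symm.trans e₂) (x : V₁ × V₂).1 = (x : V₁ × V₂).2 := by
    intro x
    show e₂ (e₁.symm (e₁ x)) = _
    rw [LinearEquiv.symm_apply_apply]
    rfl
  refine ⟨e₁.symm.trans e₂, fun g x => ?_, fun x hx => hφ ⟨x, hΓN hx⟩⟩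
  obtain ⟨y, rfl⟩ := e₁.surjective x
  have h1 : ρ₁ g (e₁ y) = ((⟨_, hNi g _ y.2⟩ : N) : V₁ × V₂).1 := rfl
  rw [h1, hφ]
  show ρ₂ g (y : V₁ × V₂).2 = ρ₂ g (e₂ (e₁.symm (e₁ y)))
  rw [LinearEquiv.symm_apply_apply]
  rfl

end Graph

end Cfsg.Agent.H943.SL2Mod
end

-- part: H943/SL2Type
section
/-!
# The type of an irreducible module (helper943)

`exists_type` : an irreducible representation of `SL(2, F)` of finite dimension in the defining characteristic contains
a minimal torus-stable space `D` of `U`-fixed vectors with `S = 0` on `D`, or `S = -1` on `D` and `D` fixed by the torus.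
-/

set_option autoImplicit false
set_option linter.unusedSectionVars false

namespace Cfsg.Agent.H943.SL2Mod

open Matrix Cfsg.Agent.H943.SL2Rel

variable {k : Type*} [Field k] {F : Type*} [Field F]

variable {V : Type*} [AddCommGroup V] [Module k V] (ρ : Representation k (_root_.Matrix.SpecialLinearGroup (Fin 2) F) V)

/-- the vectors fixed by the unipotent group -/
def UU : Submodule k V where
  carrier := {v | ∀ t : F, ρ (u t) v = v}
  zero_mem' := fun t => map_zero _
  add_mem' := fun {x y} hx hy t => by rw [map_add, hx t, hy t]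
  smul_mem' := fun c x hx t => by rw [map_smul, hx t]

theorem tinv_UU : TInv ρ (UU ρ) := by
  intro a d hd t
  have ha : (a : F) ^ 2 ≠ 0 := pow_ne_zero _ a.ne_zero
  have h1 : u t * h a = h a * u (((a : F) ^ 2)⁻¹ * t) := by
    rw [h_u, mul_inv_cancel_left₀ ha]
  rw [apply_mul, h1, map_mul]
  show ρ (h a) (ρ (u _) d) = _
  rw [hd]

theorem ufix_of_le {D : Submodule k V} (h : D ≤ UU ρ) : UFix ρ D := fun t _ hd => h hd t

/-- minimal torus-stable subspaces exist -/
theorem exists_tsimple [FiniteDimensional k V] {D : Submodule k V} (hD : D ≠ ⊥) (hT : TInv ρ D) :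
    ∃ D' ≤ D, TSimple ρ D' := by
  obtain ⟨D', ⟨h1, h2, h3⟩, hmin⟩ := (wellFounded_lt (α := Submodule k V)).has_min
    {D' : Submodule k V | D' ≠ ⊥ ∧ TInv ρ D' ∧ D' ≤ D} ⟨D, hD, hT, le_rfl⟩
  refine ⟨D', h3, h1, h2, fun D'' hle hT'' => ?_⟩
  by_contra hcon
  push Not at hcon
  exact hmin D'' ⟨hcon.1, hT'', hle.trans h3⟩ (lt_of_le_of_ne hle hcon.2)

variable [Fintype F] [DecidableEq F]

theorem u_SS (s : F) (d : V) : ρ (u s) (SS ρ d) = SS ρ d := by
  rw [SS_apply, map_sum]
  refine Fintype.sum_equiv (Equiv.addLeft s) _ _ fun t => ?_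
  rw [apply_mul, ← u_add]
  rfl

theorem SS_h (a : Fˣ) (d : V) : SS ρ (ρ (h a) d) = ρ (h a⁻¹) (SS ρ d) := by
  have ha : (a : F) ^ 2 ≠ 0 := pow_ne_zero _ a.ne_zero
  have key : ∀ t : F, ρ (u t) (ρ w (ρ (h a) d)) = ρ (h a⁻¹) (ρ (u ((a : F) ^ 2 * t)) (ρ w d)) := by
    intro t
    have h1 : (w : _root_.Matrix.SpecialLinearGroup (Fin 2) F) * h a = h a⁻¹ * w := by rw [h_w, inv_inv]
    have h2 : ((a⁻¹ : Fˣ) : F) ^ 2 * ((a : F) ^ 2 * t) = t := by
      rw [← mul_assoc, ← mul_pow, ← Units.val_mul, inv_mul_cancel, Units.val_one, one_pow, one_mul]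
    rw [apply_mul3, mul_assoc, h1, ← mul_assoc, apply_mul3, h_u, h2]
  rw [SS_apply, SS_apply, map_sum, Finset.sum_congr rfl fun t _ => key t]
  exact Equiv.sum_comp (Equiv.mulLeft₀ ((a : F) ^ 2) ha) fun t => ρ (h a⁻¹) (ρ (u t) (ρ w d))

theorem SS_mem_UU (d : V) : SS ρ d ∈ UU ρ := fun t => u_SS ρ t d

/-- the trace over the torus -/
def Tr : V →ₗ[k] V := ∑ a : Fˣ, ρ (h a)

theorem Tr_apply (v : V) : Tr ρ v = ∑ a : Fˣ, ρ (h a) v := by
  simp only [Tr, _root_.LinearMap.coe_sum, _root_.Finset.sum_apply]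

theorem h_Tr (b : Fˣ) (v : V) : ρ (h b) (Tr ρ v) = Tr ρ v := by
  rw [Tr_apply, map_sum]
  refine Fintype.sum_equiv (Equiv.mulLeft b) _ _ fun a => ?_
  rw [apply_mul, ← h_mul]
  rfl

variable (p : ℕ) [Fact p.Prime] [CharP k p] [CharP F p]

include p in
theorem SS_SS {d : V} (hd : d ∈ UU ρ) : SS ρ (SS ρ d) = SS ρ (Tr ρ d) := by
  have h1 : ρ w (SS ρ d) = ρ (h (-1)) d + ∑ a : Fˣ, ρ (u (-(a : F)⁻¹)) (ρ w (ρ (h (-a)) d)) := by
    rw [SS_apply, map_sum, ← Finset.add_sum_erase _ _ (Finset.mem_univ (0 : F)), u_zero, map_one,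
      Module.End.one_apply, ww]
    congr 1
    symm
    refine Finset.sum_bij (fun (a : Fˣ) _ => (a : F)) (fun a _ => Finset.mem_erase.2 ⟨a.ne_zero, Finset.mem_univ _⟩)
      (fun a _ b _ e => Units.ext e) (fun b hb => ⟨Units.mk0 b (Finset.ne_of_mem_erase hb), Finset.mem_univ _, rfl⟩) ?_
    intro a _
    have hU : UFix ρ (UU ρ) := ufix_of_le ρ le_rfl
    rw [wuw ρ hU a.ne_zero hd]
    congr 3
    have e : (mi (a : F) a.ne_zero)⁻¹ = -a := by
      rw [inv_eq_iff_mul_eq_one]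
      apply Units.ext
      show (-(a : F)⁻¹) * (-(a : F)) = 1
      rw [neg_mul_neg, inv_mul_cancel₀ a.ne_zero]
    rw [e]
  have h2 : ∀ (v : V) (s : F), ∑ t : F, ρ (u t) (ρ (u s) v) = ∑ t : F, ρ (u t) v := by
    intro v s
    refine Fintype.sum_equiv (Equiv.addRight s) _ _ fun t => ?_
    rw [apply_mul, ← u_add]
    rfl
  have h3 : SS ρ (SS ρ d) = ∑ t : F, ρ (u t) (ρ w (SS ρ d)) := SS_apply ρ _
  rw [h3, h1]
  simp only [map_add, map_sum, Finset.sum_add_distrib]
  rw [Finset.sum_comm]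
  have h4 : ∑ t : F, ρ (u t) (ρ (h (-1)) d) = 0 := by
    have h5 : ρ (h (-1)) d ∈ UU ρ := tinv_UU ρ _ _ hd
    rw [Finset.sum_congr rfl fun t _ => h5 t, Finset.sum_const, Finset.card_univ, ← Nat.cast_smul_eq_nsmul k]
    have h6 : ((Fintype.card F : ℕ) : k) = 0 := by
      rw [CharP.cast_eq_zero_iff k p]
      obtain ⟨n, -, hn⟩ := FiniteField.card F p
      rw [hn]
      exact dvd_pow_self p n.2.ne'
    rw [h6, zero_smul]
  rw [h4, zero_add, Tr_apply, map_sum]
  refine Fintype.sum_equiv (Equiv.neg Fˣ) _ _ fun a => ?_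
  rw [h2]
  exact (SS_apply ρ _).symm

include p in
/-- **the type of an irreducible representation** -/
theorem exists_type [FiniteDimensional k V] (hI : Irr ρ) : ∃ (D : Submodule k V) (c : k), Good ρ D c ∧
    TSimple ρ D ∧ (c = 0 ∨ (c = -1 ∧ ∀ a, ∀ d ∈ D, ρ (h a) d = d)) := by
  classical
  have := hI.1
  have hUU : UU ρ ≠ ⊥ := by
    obtain ⟨v, hv, hf⟩ := exists_ufix ρ p
    intro h0
    have h1 : v ∈ UU ρ := hf
    rw [h0] at h1
    exact hv ((Submodule.mem_bot k).1 h1)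
  obtain ⟨D, hDU, hD⟩ := exists_tsimple ρ hUU (tinv_UU ρ)
  -- the kernel of `S`
  have hK : TInv ρ (D ⊓ LinearMap.ker (SS ρ)) := by
    intro a d hd
    refine ⟨hD.2.1 a d hd.1, ?_⟩
    have h1 : SS ρ d = 0 := hd.2
    show SS ρ (ρ (h a) d) = 0
    rw [SS_h, h1, map_zero]
  rcases hD.2.2 _ inf_le_left hK with h0 | h0
  · -- `S` is injective on `D`
    have hinj : ∀ d ∈ D, SS ρ d = 0 → d = 0 := by
      intro d hd h1
      have h2 : d ∈ D ⊓ LinearMap.ker (SS ρ) := ⟨hd, h1⟩
      rw [h0] at h2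
      exact (Submodule.mem_bot k).1 h2
    let D₁ := D.map (SS ρ)
    have hD₁ : D₁ ≠ ⊥ := by
      obtain ⟨d, hd, hd0⟩ := Submodule.exists_mem_ne_zero_of_ne_bot hD.1
      intro h1
      have h2 : SS ρ d ∈ D₁ := Submodule.mem_map_of_mem hd
      rw [h1] at h2
      exact hd0 (hinj d hd ((Submodule.mem_bot k).1 h2))
    have hT₁ : TInv ρ D₁ := by
      rintro a _ ⟨d, hd, rfl⟩
      refine ⟨ρ (h a⁻¹) d, hD.2.1 _ _ hd, ?_⟩
      rw [SS_h, inv_inv]
    have hU₁ : D₁ ≤ UU ρ := by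
      rintro _ ⟨d, hd, rfl⟩
      exact SS_mem_UU ρ d
    obtain ⟨D₂, hD₂, hS₂⟩ := exists_tsimple ρ hD₁ hT₁
    -- the fixed points of the torus
    have hF : TInv ρ (D ⊓ ⨅ a, LinearMap.ker (ρ (h a) - 1)) := by
      intro a d hd
      refine ⟨hD.2.1 a d hd.1, ?_⟩
      have h1 : ρ (h a) d = d := by
        have := (Submodule.mem_iInf _).1 hd.2 a
        rwa [LinearMap.mem_ker, LinearMap.sub_apply, Module.End.one_apply, sub_eq_zero] at this
      rw [h1]
      exact hd.2
    have hfix : ∀ d, (∀ a, ρ (h a) d = d) → d ∈ ⨅ a, LinearMap.ker (ρ (h a) - 1) := by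
      intro d hd
      refine (Submodule.mem_iInf _).2 fun a => ?_
      rw [LinearMap.mem_ker, LinearMap.sub_apply, Module.End.one_apply, sub_eq_zero]
      exact hd a
    rcases hD.2.2 _ inf_le_left hF with h1 | h1
    · refine ⟨D₂, 0, ⟨hS₂.2.1, ufix_of_le ρ (hD₂.trans hU₁), ?_⟩, hS₂, Or.inl rfl⟩
      intro d hd
      obtain ⟨d', hd', rfl⟩ := hD₂ hd
      have h2 : Tr ρ d' ∈ D ⊓ ⨅ a, LinearMap.ker (ρ (h a) - 1) := by
        refine ⟨?_, hfix _ fun a => h_Tr ρ a d'⟩
        rw [Tr_apply]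
        exact sum_mem fun a _ => hD.2.1 _ _ hd'
      rw [h1] at h2
      rw [SS_SS ρ p (hDU hd'), (Submodule.mem_bot k).1 h2, map_zero, zero_smul]
    · have hfx : ∀ a, ∀ d ∈ D, ρ (h a) d = d := by
        intro a d hd
        rw [← h1] at hd
        have := (Submodule.mem_iInf _).1 hd.2 a
        rwa [LinearMap.mem_ker, LinearMap.sub_apply, Module.End.one_apply, sub_eq_zero] at this
      refine ⟨D₂, -1, ⟨hS₂.2.1, ufix_of_le ρ (hD₂.trans hU₁), ?_⟩, hS₂, Or.inr ⟨rfl, ?_⟩⟩
      · intro d hd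
        obtain ⟨d', hd', rfl⟩ := hD₂ hd
        rw [SS_SS ρ p (hDU hd'), Tr_apply, Finset.sum_congr rfl fun a _ => hfx a d' hd', Finset.sum_const,
          Finset.card_univ, map_nsmul, ← Nat.cast_smul_eq_nsmul k, Fintype.card_units]
        congr 1
        have h6 : ((Fintype.card F : ℕ) : k) = 0 := by
          rw [CharP.cast_eq_zero_iff k p]
          obtain ⟨n, -, hn⟩ := FiniteField.card F p
          rw [hn]
          exact dvd_pow_self p n.2.ne'
        rw [Nat.cast_sub Fintype.card_pos, h6, Nat.cast_one, zero_sub]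
      · intro a d hd
        obtain ⟨d', hd', rfl⟩ := hD₂ hd
        have h2 := SS_h ρ a⁻¹ d'
        rw [inv_inv, hfx _ _ hd'] at h2
        exact h2.symm
  · refine ⟨D, 0, ⟨hD.2.1, ufix_of_le ρ hDU, ?_⟩, hD, Or.inl rfl⟩
    intro d hd
    rw [← h0] at hd
    rw [zero_smul]
    exact hd.2

end Cfsg.Agent.H943.SL2Mod
end

-- part: H943/SL2End
section
/-!
# Endomorphisms of irreducible modules (helper943)

* `exists_end` : an irreducible module with type `D` has an automorphism commuting with the group which is `h b` on `D`;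
* `dvd_card_sub_one` : an automorphism of prime order `l` of an irreducible module: `|C| ≡ 1 mod l` for stable `C`;
* `triv_of_type` : `D` fixed by the torus and `S = 0` on `D`: the trivial module.
-/

set_option autoImplicit false
set_option linter.unusedSectionVars false

namespace Cfsg.Agent.H943.SL2Mod

open Matrix Cfsg.Agent.H943.SL2Rel Cfsg.Agent.H943.RepAdd

variable {k : Type*} [Field k] {F : Type*} [Field F] [Fintype F] [DecidableEq F]

section Prod

variable {V₁ V₂ : Type*} [AddCommGroup V₁] [Module k V₁] [AddCommGroup V₂] [Module k V₂]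
  (ρ₁ : Representation k (_root_.Matrix.SpecialLinearGroup (Fin 2) F) V₁) (ρ₂ : Representation k (_root_.Matrix.SpecialLinearGroup (Fin 2) F) V₂)

theorem SS_prod (x : V₁ × V₂) : SS (prodRep ρ₁ ρ₂) x = (SS ρ₁ x.1, SS ρ₂ x.2) := by
  rw [SS_apply, SS_apply, SS_apply]
  apply Prod.ext
  · rw [Prod.fst_sum]; rfl
  · rw [Prod.snd_sum]; rfl

/-- the graph of a map of types -/
theorem graph_good {D : Submodule k V₁} {c : k} (G : Good ρ₁ D c) (θ : V₁ →ₗ[k] V₂)
    (hθ : ∀ a, ∀ d ∈ D, θ (ρ₁ (h a) d) = ρ₂ (h a) (θ d)) (hU : ∀ t, ∀ d ∈ D, ρ₂ (u t) (θ d) = θ d)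
    (hS : ∀ d ∈ D, SS ρ₂ (θ d) = c • θ d) :
    Good (prodRep ρ₁ ρ₂) (D.map (LinearMap.prod LinearMap.id θ)) c := by
  constructor
  · rintro a _ ⟨d, hd, rfl⟩
    exact ⟨ρ₁ (h a) d, G.tinv a d hd, Prod.ext rfl (hθ a d hd)⟩
  · rintro t _ ⟨d, hd, rfl⟩
    exact Prod.ext (G.ufix t d hd) (hU t d hd)
  · rintro _ ⟨d, hd, rfl⟩
    rw [SS_prod]
    exact Prod.ext (G.ss d hd) (hS d hd)

theorem graph_tsimple {D : Submodule k V₁} (hD : TSimple ρ₁ D) (θ : V₁ →ₗ[k] V₂)
    (hθ : ∀ a, ∀ d ∈ D, θ (ρ₁ (h a) d) = ρ₂ (h a) (θ d)) :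
    TSimple (prodRep ρ₁ ρ₂) (D.map (LinearMap.prod LinearMap.id θ)) := by
  refine ⟨?_, ?_, ?_⟩
  · intro h0
    obtain ⟨d, hd, hd0⟩ := Submodule.exists_mem_ne_zero_of_ne_bot hD.1
    have h1 : LinearMap.prod LinearMap.id θ d ∈ D.map (LinearMap.prod LinearMap.id θ) := Submodule.mem_map_of_mem hd
    rw [h0] at h1
    exact hd0 (congrArg Prod.fst ((Submodule.mem_bot k).1 h1))
  · rintro a _ ⟨d, hd, rfl⟩
    exact ⟨ρ₁ (h a) d, hD.2.1 a d hd, Prod.ext rfl (hθ a d hd)⟩
  · intro Γ hle hT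
    have h1 : ∀ x ∈ Γ, x.1 ∈ D ∧ x = LinearMap.prod LinearMap.id θ x.1 := by
      intro x hx
      obtain ⟨d, hd, rfl⟩ := hle hx
      exact ⟨hd, rfl⟩
    rcases hD.2.2 (Γ.map (LinearMap.fst k V₁ V₂)) (by
      rintro _ ⟨x, hx, rfl⟩
      exact (h1 x hx).1) (by
      rintro a _ ⟨x, hx, rfl⟩
      exact ⟨_, hT a x hx, rfl⟩) with h2 | h2
    · left
      rw [eq_bot_iff]
      intro x hx
      have h3 : x.1 ∈ Γ.map (LinearMap.fst k V₁ V₂) := ⟨x, hx, rfl⟩
      rw [h2] at h3
      rw [(h1 x hx).2, (Submodule.mem_bot k).1 h3, map_zero]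
      exact Submodule.zero_mem _
    · right
      apply le_antisymm hle
      rintro _ ⟨d, hd, rfl⟩
      have hd' : d ∈ D := hd
      rw [← h2] at hd'
      obtain ⟨x, hx, e⟩ := hd'
      have e' : x.1 = d := e
      rw [← e', ← (h1 x hx).2]
      exact hx

end Prod

variable {V : Type*} [AddCommGroup V] [Module k V] (ρ : Representation k (_root_.Matrix.SpecialLinearGroup (Fin 2) F) V)
variable (p : ℕ) [Fact p.Prime] [CharP k p] [CharP F p]

include p in
/-- **an endomorphism extending the action of an element of the torus on the type** -/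
theorem exists_end (hI : Irr ρ) {D : Submodule k V} {c : k} (G : Good ρ D c) (hD : TSimple ρ D) (b : Fˣ) :
    ∃ α : V ≃ₗ[k] V, (∀ g x, α (ρ g x) = ρ g (α x)) ∧ ∀ x ∈ D, α x = ρ (h b) x := by
  have hθ : ∀ a, ∀ d ∈ D, ρ (h b) (ρ (h a) d) = ρ (h a) (ρ (h b) d) := by
    intro a d _
    rw [apply_mul, apply_mul, ← h_mul, ← h_mul, mul_comm]
  have hex : ∃ x ∈ D.map (LinearMap.prod LinearMap.id (ρ (h b))), x.1 ≠ 0 := by
    obtain ⟨d, hd, hd0⟩ := Submodule.exists_mem_ne_zero_of_ne_bot hD.1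
    exact ⟨_, Submodule.mem_map_of_mem hd, hd0⟩
  have hex2 : ∃ x ∈ D.map (LinearMap.prod LinearMap.id (ρ (h b))), x.2 ≠ 0 := by
    obtain ⟨d, hd, hd0⟩ := Submodule.exists_mem_ne_zero_of_ne_bot hD.1
    refine ⟨_, Submodule.mem_map_of_mem hd, fun h0 => hd0 ?_⟩
    have h1 : ρ (h b) d = 0 := h0
    have h2 := congrArg (ρ (h b⁻¹)) h1
    rw [apply_mul, ← h_mul, inv_mul_cancel, h_one, map_one, map_zero] at h2
    exact h2
  obtain ⟨φ, h1, h2⟩ := exists_iso ρ ρ p (graph_good ρ ρ G (ρ (h b)) hθ (fun t d hd => G.ufix t _ (G.tinv b d hd))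
    (fun d hd => G.ss _ (G.tinv b d hd))) (graph_tsimple ρ ρ hD (ρ (h b)) hθ) hI hI hex hex2
  exact ⟨φ, h1, fun x hx => h2 (x, ρ (h b) x) ⟨x, hx, rfl⟩⟩

/-- the kernel of an endomorphism commuting with an irreducible group -/
theorem ker_eq (hI : Irr ρ) (β : Module.End k V) (hβ : ∀ g x, β (ρ g x) = ρ g (β x)) :
    LinearMap.ker β = ⊥ ∨ β = 0 := by
  rcases hI.2 (LinearMap.ker β) (by
    intro g x hx
    rw [LinearMap.mem_ker] at hx ⊢
    rw [hβ, hx, map_zero]) with h | h
  · exact Or.inl h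
  · exact Or.inr (LinearMap.ker_eq_top.1 h)

/-- **stable subspaces of a fixed-point-free automorphism of prime order** -/
theorem card_modEq_one {l : ℕ} [Fact l.Prime] (β : V ≃ₗ[k] V) (h1 : ∀ x, (β ^ l) x = x) (h2 : ∀ x, β x = x → x = 0)
    (C : Submodule k V) (hC : ∀ x ∈ C, β x ∈ C) [Finite C] : Nat.card C ≡ 1 [MOD l] := by
  classical
  have hinj : Function.Injective (fun x : C => (⟨β x, hC x x.2⟩ : C)) := by
    intro x y e
    exact Subtype.ext (β.injective (congrArg Subtype.val e))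
  let b : Equiv.Perm C := Equiv.ofBijective _ (Finite.injective_iff_bijective.1 hinj)
  have hb : ∀ (n : ℕ) (x : C), (((b ^ n) x : C) : V) = (β ^ n) x := by
    intro n
    induction n with
    | zero => intro x; rfl
    | succ n ih =>
      intro x
      rw [pow_succ', pow_succ', Equiv.Perm.mul_apply]
      show β (((b ^ n) x : C) : V) = β ((β ^ n) x)
      rw [ih]
  have hP : IsPGroup l (Subgroup.zpowers b) := by
    intro g
    obtain ⟨g, n, rfl⟩ := g
    refine ⟨1, ?_⟩
    apply Subtype.ext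
    show (b ^ n) ^ l ^ 1 = 1
    rw [pow_one, ← zpow_natCast, zpow_comm, zpow_natCast]
    have : b ^ l = 1 := by
      ext x
      rw [hb, h1]
      rfl
    rw [this, _root_.one_zpow]
  have h3 := hP.card_modEq_card_fixedPoints C
  have h4 : MulAction.fixedPoints (Subgroup.zpowers b) C = {0} := by
    ext x
    rw [MulAction.mem_fixedPoints, Set.mem_singleton_iff]
    constructor
    · intro hx
      have h5 := hx ⟨b, Subgroup.mem_zpowers b⟩
      have h6 : b x = x := h5
      exact Subtype.ext (h2 _ (congrArg Subtype.val h6))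
    · rintro rfl ⟨g, n, rfl⟩
      show (b ^ n) 0 = 0
      have h7 : b 0 = 0 := Subtype.ext (map_zero β)
      exact (Equiv.Perm.zpow_apply_eq_self_of_apply_eq_self h7 n)
  rw [h4] at h3
  simpa only [_root_.Nat.card_eq_fintype_card, _root_.Fintype.card_unique] using h3

/-- **the trivial type** -/
theorem triv_of_type (hI : Irr ρ) {D : Submodule k V} (G : Good ρ D 0) (hD : TSimple ρ D)
    (hT : ∀ a, ∀ d ∈ D, ρ (h a) d = d) (p : ℕ) [Fact p.Prime] [CharP k p] [CharP F p] :
    (∀ g x, ρ g x = x) ∧ Module.finrank k V = 1 := by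
  obtain ⟨d, hd, hd0⟩ := Submodule.exists_mem_ne_zero_of_ne_bot hD.1
  -- the trivial representation
  let τ : Representation k (_root_.Matrix.SpecialLinearGroup (Fin 2) F) k := 1
  have hτ : ∀ g x, τ g x = x := fun g x => rfl
  have hDspan : D = Submodule.span k {d} := by
    rcases hD.2.2 (Submodule.span k {d}) (by simpa using hd) (by
      intro a x hx
      rw [hT a x ((Submodule.span_le.2 (by simpa using hd)) hx)]
      exact hx) with h0 | h0
    · exact absurd (Submodule.span_singleton_eq_bot.1 h0) hd0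
    · exact h0.symm
  obtain ⟨f, hf⟩ : ∃ f : V →ₗ[k] k, f d = 1 := by
    by_contra hcon
    push Not at hcon
    apply hd0
    have h1 : ∀ g : V →ₗ[k] k, g d = 0 := by
      intro g
      by_contra hg
      exact hcon ((g d)⁻¹ • g) (by rw [LinearMap.smul_apply, smul_eq_mul, inv_mul_cancel₀ hg])
    exact (Module.forall_dual_apply_eq_zero_iff k d).1 h1
  have hq : ((Fintype.card F : ℕ) : k) = 0 := by
    rw [CharP.cast_eq_zero_iff k p]
    obtain ⟨n, -, hn⟩ := FiniteField.card F p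
    rw [hn]
    exact dvd_pow_self p n.2.ne'
  have hSτ : ∀ x : k, SS τ x = 0 := by
    intro x
    rw [SS_apply]
    have : ∀ t : F, τ (u t) (τ w x) = x := fun t => rfl
    rw [Finset.sum_congr rfl fun t _ => this t, Finset.sum_const, Finset.card_univ, ← Nat.cast_smul_eq_nsmul k, hq,
      zero_smul]
  have hIτ : Irr τ := by
    refine ⟨inferInstance, fun W _ => ?_⟩
    exact eq_bot_or_eq_top W
  have hθ : ∀ a, ∀ x ∈ D, f (ρ (h a) x) = τ (h a) (f x) := by
    intro a x hx
    rw [hT a x hx, hτ]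
  have hfd : (LinearMap.prod LinearMap.id f) d = (d, 1) := Prod.ext rfl hf
  obtain ⟨φ, h1, -⟩ := exists_iso ρ τ p (graph_good ρ τ G f hθ (fun t x hx => rfl) (fun x hx => by
    rw [hSτ, zero_smul])) (graph_tsimple ρ τ hD f hθ) hI hIτ
    ⟨_, Submodule.mem_map_of_mem hd, by rw [hfd]; exact hd0⟩
    ⟨_, Submodule.mem_map_of_mem hd, by rw [hfd]; exact one_ne_zero⟩
  refine ⟨fun g x => φ.injective (by rw [h1, hτ]), ?_⟩
  rw [LinearEquiv.finrank_eq φ, Module.finrank_self]

end Cfsg.Agent.H943.SL2Mod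
end

private theorem dce_e6e99dee997f : _root_.True := by
  try have : _root_.True := by simp only [_root_.Cfsg.Agent.H943.SL2Mod.Tr.congr_simp]
  try have : _root_.True := by simp only [_root_.Cfsg.Agent.H943.SL2Mod.Tr.eq_1]
  try have : _root_.True := by simp only [_root_.Cfsg.Agent.H943.SL2Mod.SS.eq_1]
  exact _root_.True.intro
end

-- part: H943/SL2Vb
section
prune_inst 0x50044400142020000180594910000404000009200430000a260070603000042a042062128300410189880444809000000100080424000000e000000011a018000000204b048a2080a001e000080000000000000000000000000000000000004000000000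
set_option linter.all false
open scoped Cfsg.Agent.FastGrp

/-!
# The modules `V_b` (helper943)

`k` a field with an embedding `ι : F → k`; `V_b` is the submodule generated by `x ^ b` in the functions on `F²`,
`b ≤ q - 1`; it is spanned by the monomials `x ^ m y ^ (b - m)` with `C(b, m) ≠ 0`; it is irreducible.
-/

set_option autoImplicit false
set_option linter.unusedSectionVars false

namespace Cfsg.Agent.H943.SL2Mod

open Matrix Cfsg.Agent.H943.SL2Rel Cfsg.Agent.H943.RepAdd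

variable {k : Type*} [Field k] {F : Type*} [Field F] [Fintype F] [DecidableEq F] (ι : F →+* k)

/-- the action on functions on row vectors -/
def fRep (k : Type*) [Field k] (F : Type*) [Field F] : Representation k (SpecialLinearGroup (Fin 2) F) (F × F → k) where
  toFun g :=
    { toFun := fun f z => f (z.1 * g.1 0 0 + z.2 * g.1 1 0, z.1 * g.1 0 1 + z.2 * g.1 1 1)
      map_add' := fun f f' => rfl
      map_smul' := fun c f => rfl }
  map_one' := by
    refine LinearMap.ext fun f => funext fun z => ?_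
    show f (z.1 * (1 : Matrix (Fin 2) (Fin 2) F) 0 0 + z.2 * (1 : Matrix (Fin 2) (Fin 2) F) 1 0,
      z.1 * (1 : Matrix (Fin 2) (Fin 2) F) 0 1 + z.2 * (1 : Matrix (Fin 2) (Fin 2) F) 1 1) = f z
    simp
  map_mul' a b := by
    refine LinearMap.ext fun f => funext fun z => ?_
    show f (z.1 * (a.1 * b.1) 0 0 + z.2 * (a.1 * b.1) 1 0, z.1 * (a.1 * b.1) 0 1 + z.2 * (a.1 * b.1) 1 1) =
      f ((z.1 * a.1 0 0 + z.2 * a.1 1 0) * b.1 0 0 + (z.1 * a.1 0 1 + z.2 * a.1 1 1) * b.1 1 0,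
        (z.1 * a.1 0 0 + z.2 * a.1 1 0) * b.1 0 1 + (z.1 * a.1 0 1 + z.2 * a.1 1 1) * b.1 1 1)
    rw [Matrix.mul_apply, Matrix.mul_apply, Matrix.mul_apply, Matrix.mul_apply]
    simp only [Fin.sum_univ_two]
    congr 2
    · ring
    · ring

theorem fRep_u (t : F) (f : F × F → k) (x y : F) : fRep k F (u t) f (x, y) = f (x, x * t + y) := by
  show f (x * 1 + y * 0, x * t + y * 1) = _
  rw [mul_one, mul_zero, add_zero, mul_one]

theorem fRep_w (f : F × F → k) (x y : F) : fRep k F w f (x, y) = f (-y, x) := by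
  show f (x * 0 + y * (-1), x * 1 + y * 0) = _
  rw [mul_zero, zero_add, mul_one, mul_zero, add_zero, mul_neg_one]

theorem fRep_h (a : Fˣ) (f : F × F → k) (x y : F) : fRep k F (h a) f (x, y) = f (x * a, y * (a : F)⁻¹) := by
  show f (x * a + y * 0, x * 0 + y * (a : F)⁻¹) = _
  rw [mul_zero, mul_zero, add_zero, zero_add]

/-- the monomial `x ^ m y ^ (b - m)` -/
def mon (b m : ℕ) : F × F → k := fun z => ι z.1 ^ m * ι z.2 ^ (b - m)

theorem mon_self (b : ℕ) (z : F × F) : mon ι b b z = ι z.1 ^ b := by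
  unfold mon
  rw [Nat.sub_self, pow_zero, mul_one]

theorem h_mon (a : Fˣ) (b m : ℕ) : fRep k F (h a) (mon ι b m) = (ι a ^ m * (ι a)⁻¹ ^ (b - m)) • mon ι b m := by
  funext z
  obtain ⟨x, y⟩ := z
  rw [fRep_h]
  show ι (x * a) ^ m * ι (y * (a : F)⁻¹) ^ (b - m) = (ι a ^ m * (ι a)⁻¹ ^ (b - m)) * (ι x ^ m * ι y ^ (b - m))
  rw [map_mul, map_mul, map_inv₀, mul_pow, mul_pow]
  ring

theorem uw_mon (b : ℕ) (t : F) : fRep k F (u t) (fRep k F w (mon ι b b)) =
    ∑ m ∈ Finset.range (b + 1), ((-1) ^ b * ι t ^ m * (b.choose m : k)) • mon ι b m := by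
  funext z
  obtain ⟨x, y⟩ := z
  rw [fRep_u, fRep_w, mon_self, Finset.sum_apply]
  show ι (-(x * t + y)) ^ b = ∑ m ∈ Finset.range (b + 1), ((-1) ^ b * ι t ^ m * (b.choose m : k)) * (ι x ^ m * ι y ^ (b - m))
  rw [map_neg, map_add, map_mul, neg_pow, add_pow, Finset.mul_sum]
  refine Finset.sum_congr rfl fun m _ => ?_
  rw [mul_pow]
  ring

/-- the type -/
def Db (b : ℕ) : Submodule k (F × F → k) := Submodule.span k {mon ι b b}

/-- the module `V_b` -/
def Vb (b : ℕ) : Submodule k (F × F → k) := MM (fRep k F) (Db ι b)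

theorem mon_mem_Db (b : ℕ) : mon ι b b ∈ Db ι b := Submodule.mem_span_singleton_self _

theorem SS_mon {b : ℕ} : SS (fRep k F) (mon ι b b) = fun z => if z.1 = 0 then
    (Fintype.card F : k) * ((-1) ^ b * ι z.2 ^ b) else (-1) ^ b * ι (∑ s : F, s ^ b) := by
  funext z
  obtain ⟨x, y⟩ := z
  rw [SS_apply, Finset.sum_apply]
  have h1 : ∀ t : F, fRep k F (u t) (fRep k F w (mon ι b b)) (x, y) = (-1) ^ b * ι (x * t + y) ^ b := by
    intro t
    rw [fRep_u, fRep_w, mon_self, map_neg, neg_pow]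
  rw [Finset.sum_congr rfl fun t _ => h1 t, ← Finset.mul_sum]
  by_cases hx : x = 0
  · simp only [hx, zero_mul, zero_add, Finset.sum_const, Finset.card_univ, nsmul_eq_mul, if_true]
    ring
  · rw [if_neg hx]
    congr 1
    rw [map_sum]
    refine Fintype.sum_equiv ((Equiv.mulLeft₀ x hx).trans (Equiv.addRight y)) _ _ fun t => ?_
    rw [← map_pow]
    rfl

variable (p : ℕ) [Fact p.Prime] [CharP k p] [CharP F p]

include p in
theorem card_zero : ((Fintype.card F : ℕ) : k) = 0 := by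
  rw [CharP.cast_eq_zero_iff k p]
  obtain ⟨n, -, hn⟩ := FiniteField.card F p
  rw [hn]
  exact dvd_pow_self p n.2.ne'

include p in
theorem SS_mon_lt {b : ℕ} (hb : b < Fintype.card F - 1) : SS (fRep k F) (mon ι b b) = 0 := by
  rw [SS_mon, card_zero (k := k) (F := F) p, FiniteField.sum_pow_lt_card_sub_one _ b hb]
  funext z
  by_cases hz : z.1 = 0
  · rw [if_pos hz, zero_mul]; rfl
  · rw [if_neg hz, map_zero, mul_zero]; rfl

theorem sum_pow_card : ∑ s : F, s ^ (Fintype.card F - 1) = -1 := by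
  have h1 : ∑ s : F, s ^ (Fintype.card F - 1) = ∑ s ∈ Finset.univ.erase (0 : F), (1 : F) := by
    rw [← Finset.add_sum_erase _ _ (Finset.mem_univ (0 : F)), zero_pow, zero_add]
    · exact Finset.sum_congr rfl fun s hs => FiniteField.pow_card_sub_one_eq_one s (Finset.ne_of_mem_erase hs)
    · have : 1 < Fintype.card F := Fintype.one_lt_card
      omega
  rw [h1, Finset.sum_const, Finset.card_erase_of_mem (Finset.mem_univ _), Finset.card_univ, nsmul_eq_mul, mul_one,
    Nat.cast_sub Fintype.card_pos, Nat.cast_one, FiniteField.cast_card_eq_zero, zero_sub]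

include p in
theorem SS_mon_eq (hodd : Odd (Fintype.card F)) : SS (fRep k F) (mon ι (Fintype.card F - 1) (Fintype.card F - 1)) =
    (-1 : k) • mon ι (Fintype.card F - 1) (Fintype.card F - 1) := by
  rw [SS_mon, card_zero (k := k) (F := F) p, sum_pow_card]
  funext z
  have h0 : Fintype.card F - 1 ≠ 0 := by
    have : 1 < Fintype.card F := Fintype.one_lt_card
    omega
  have he : (-1 : k) ^ (Fintype.card F - 1) = 1 := by
    apply Even.neg_one_pow
    obtain ⟨r, hr⟩ := hodd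
    exact ⟨r, by omega⟩
  show _ = (-1 : k) * mon ι (Fintype.card F - 1) (Fintype.card F - 1) z
  rw [mon_self]
  by_cases hz : z.1 = 0
  · rw [if_pos hz, zero_mul, hz, map_zero, zero_pow h0, mul_zero]
  · rw [if_neg hz, ← map_pow, FiniteField.pow_card_sub_one_eq_one _ hz, map_one, map_neg, map_one, he, one_mul, mul_one]

/-- the scalar of `V_b` -/
def cb (k : Type*) [Field k] (F : Type*) [Fintype F] (b : ℕ) : k := if b < Fintype.card F - 1 then 0 else -1

include p in
theorem good_Db (hodd : Odd (Fintype.card F)) {b : ℕ} (hb : b ≤ Fintype.card F - 1) :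
    Good (fRep k F) (Db ι b) (cb k F b) := by
  constructor
  · intro a d hd
    obtain ⟨c, rfl⟩ := Submodule.mem_span_singleton.1 hd
    rw [map_smul, h_mon]
    exact Submodule.smul_mem _ _ (Submodule.smul_mem _ _ (mon_mem_Db ι b))
  · intro t d hd
    obtain ⟨c, rfl⟩ := Submodule.mem_span_singleton.1 hd
    rw [map_smul]
    congr 1
    funext z
    obtain ⟨x, y⟩ := z
    rw [fRep_u, mon_self, mon_self]
  · intro d hd
    obtain ⟨c, rfl⟩ := Submodule.mem_span_singleton.1 hd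
    rw [map_smul]
    unfold cb
    by_cases h : b < Fintype.card F - 1
    · rw [if_pos h, SS_mon_lt ι p h, smul_zero, zero_smul]
    · have hb' : b = Fintype.card F - 1 := by omega
      rw [if_neg h, hb', SS_mon_eq ι p hodd, smul_comm]

include p in
theorem inv_Vb (hodd : Odd (Fintype.card F)) {b : ℕ} (hb : b ≤ Fintype.card F - 1) : Inv (fRep k F) (Vb ι b) :=
  inv_MM _ (good_Db ι p hodd hb)

include p in
theorem Db_le (hodd : Odd (Fintype.card F)) {b : ℕ} (hb : b ≤ Fintype.card F - 1) : Db ι b ≤ Vb ι b :=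
  le_MM _ (good_Db ι p hodd hb)

/-- the monomials occurring in `V_b` -/
def Bb (k : Type*) [Field k] (b : ℕ) : Set ℕ := {m | m ≤ b ∧ (b.choose m : k) ≠ 0}

theorem Vb_le (b : ℕ) : Vb ι b ≤ Submodule.span k (mon ι b '' Bb k b) := by
  refine Submodule.span_le.2 ?_
  rintro _ ⟨t, d, hd, rfl⟩
  obtain ⟨c, rfl⟩ := Submodule.mem_span_singleton.1 hd
  rw [map_smul, map_smul, uw_mon]
  refine Submodule.smul_mem _ _ (sum_mem fun m hm => ?_)
  by_cases h0 : (b.choose m : k) = 0
  · rw [h0, mul_zero, zero_smul]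
    exact Submodule.zero_mem _
  · exact Submodule.smul_mem _ _ (Submodule.subset_span ⟨m, ⟨Nat.lt_succ_iff.1 (Finset.mem_range.1 hm), h0⟩, rfl⟩)

/-- functions which are polynomials of small degree -/
theorem coeff_zero (hι : Function.Injective ι) {n : ℕ} (hn : n < Fintype.card F) (c : ℕ → k)
    (h : ∀ t : F, ∑ j ∈ Finset.range (n + 1), c j * ι t ^ j = 0) : ∀ j ≤ n, c j = 0 := by
  let P : Polynomial k := ∑ j ∈ Finset.range (n + 1), Polynomial.C (c j) * Polynomial.X ^ j
  have hP : P = 0 := by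
    refine Polynomial.eq_zero_of_natDegree_lt_card_of_eval_eq_zero P (f := ι) hι ?_ ?_
    · intro t
      rw [Polynomial.eval_finsetSum]
      simpa using h t
    · refine lt_of_le_of_lt ?_ hn
      refine Polynomial.natDegree_sum_le_of_forall_le _ _ fun j hj => ?_
      exact (Polynomial.natDegree_C_mul_X_pow_le _ _).trans (Nat.lt_succ_iff.1 (Finset.mem_range.1 hj))
  intro j hj
  have h1 : P.coeff j = c j := by
    rw [Polynomial.finsetSum_coeff]
    simp only [Polynomial.coeff_C_mul, Polynomial.coeff_X_pow, mul_ite, mul_one, mul_zero]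
    rw [Finset.sum_ite_eq, if_pos (Finset.mem_range.2 (Nat.lt_succ_iff.2 hj))]
  rw [← h1, hP, Polynomial.coeff_zero]

theorem mon_indep (hι : Function.Injective ι) {b : ℕ} (hb : b < Fintype.card F) (c : ℕ → k)
    (h : ∀ y : F, ∑ m ∈ Finset.range (b + 1), c m * mon ι b m (1, y) = 0) : ∀ m ≤ b, c m = 0 := by
  have key : ∀ j ≤ b, c (b - j) = 0 := by
    refine coeff_zero ι hι hb (fun j => c (b - j)) fun t => ?_
    rw [← Finset.sum_range_reflect]
    rw [← h t]
    refine Finset.sum_congr rfl fun m hm => ?_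
    have hm' := Finset.mem_range.1 hm
    unfold mon
    rw [map_one, one_pow, one_mul]
    congr 2
    · omega
  intro m hm
  have := key (b - m) (Nat.sub_le _ _)
  rwa [Nat.sub_sub_self hm] at this

/-- elements of the span of the monomials -/
theorem mem_span_mon {b : ℕ} {f : F × F → k} (hf : f ∈ Submodule.span k (mon ι b '' Bb k b)) :
    ∃ c : ℕ → k, f = ∑ m ∈ Finset.range (b + 1), c m • mon ι b m := by
  induction hf using Submodule.span_induction with
  | mem x hx =>
    obtain ⟨m, hm, rfl⟩ := hx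
    refine ⟨fun j => if j = m then 1 else 0, ?_⟩
    rw [Finset.sum_eq_single m]
    · show mon ι b m = (if m = m then (1 : k) else 0) • mon ι b m
      rw [if_pos rfl, one_smul]
    · intro j _ hj
      show (if j = m then (1 : k) else 0) • mon ι b j = 0
      rw [if_neg hj, zero_smul]
    · intro h0
      exact absurd (Finset.mem_range.2 (Nat.lt_succ_iff.2 hm.1)) h0
  | zero => exact ⟨fun _ => 0, by simp⟩
  | add x y _ _ hx hy =>
    obtain ⟨c, rfl⟩ := hx
    obtain ⟨c', rfl⟩ := hy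
    refine ⟨fun j => c j + c' j, ?_⟩
    rw [← Finset.sum_add_distrib]
    exact Finset.sum_congr rfl fun m _ => (add_smul _ _ _).symm
  | smul a x _ hx =>
    obtain ⟨c, rfl⟩ := hx
    refine ⟨fun j => a * c j, ?_⟩
    rw [Finset.smul_sum]
    exact Finset.sum_congr rfl fun m _ => (mul_smul _ _ _).symm

/-- the fixed vectors of the unipotent group in `V_b` -/
theorem fixed_Vb (hι : Function.Injective ι) {b : ℕ} (hb : b < Fintype.card F) {f : F × F → k} (hf : f ∈ Vb ι b)
    (hU : ∀ t : F, fRep k F (u t) f = f) : f ∈ Db ι b := by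
  obtain ⟨c, rfl⟩ := mem_span_mon ι (Vb_le ι b hf)
  have h1 : ∀ m ≤ b, (if m = b then 0 else c m) = 0 := by
    refine mon_indep ι hι hb (fun m => if m = b then 0 else c m) fun y => ?_
    have h2 := congrFun (hU y) (1, 0)
    rw [fRep_u] at h2
    rw [Finset.sum_apply, Finset.sum_apply] at h2
    have h3 : ∑ m ∈ Finset.range (b + 1), (if m = b then 0 else c m) * mon ι b m (1, y) =
        ∑ m ∈ Finset.range (b + 1), (c m • mon ι b m) (1, y) - c b := by
      rw [Finset.sum_range_succ, Finset.sum_range_succ, if_pos rfl, zero_mul, add_zero]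
      have e1 : (c b • mon ι b b) ((1 : F), y) = c b := by
        show c b * mon ι b b (1, y) = c b
        rw [mon_self, map_one, one_pow, mul_one]
      rw [e1, add_sub_cancel_right]
      refine Finset.sum_congr rfl fun m hm => ?_
      rw [if_neg (Finset.mem_range.1 hm).ne]
      rfl
    rw [h3, sub_eq_zero]
    have h4 : (1 : F) * y + 0 = y := by rw [one_mul, add_zero]
    rw [h4] at h2
    rw [h2, Finset.sum_eq_single b]
    · show c b * mon ι b b (1, 0) = c b
      rw [mon_self, map_one, one_pow, mul_one]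
    · intro m hm hmb
      show c m * mon ι b m (1, 0) = 0
      unfold mon
      have : b - m ≠ 0 := by
        have := Finset.mem_range.1 hm
        omega
      rw [map_zero, zero_pow this, mul_zero, mul_zero]
    · intro h0
      exact absurd (Finset.mem_range.2 (Nat.lt_succ_self b)) h0
  rw [Finset.sum_eq_single b]
  · exact Submodule.smul_mem _ _ (mon_mem_Db ι b)
  · intro m hm hmb
    have h2 := h1 m (Nat.lt_succ_iff.1 (Finset.mem_range.1 hm))
    rw [if_neg hmb] at h2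
    rw [h2, zero_smul]
  · intro h0
    exact absurd (Finset.mem_range.2 (Nat.lt_succ_self b)) h0

/-- the representation on `V_b` -/
def rb (hodd : Odd (Fintype.card F)) {b : ℕ} (hb : b ≤ Fintype.card F - 1) :
    Representation k (SpecialLinearGroup (Fin 2) F) (Vb ι b) :=
  subRep (fRep k F) (Vb ι b) (inv_Vb ι p hodd hb)

theorem mon_ne_zero (b : ℕ) : mon ι b b ≠ 0 := by
  intro h0
  have h1 := congrFun h0 ((1 : F), (0 : F))
  rw [mon_self, map_one, one_pow] at h1
  exact one_ne_zero h1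

/-- **`V_b` is irreducible** -/
theorem irr_rb (hι : Function.Injective ι) (hodd : Odd (Fintype.card F)) {b : ℕ} (hb : b ≤ Fintype.card F - 1) :
    Irr (rb ι p hodd hb) := by
  have hm : mon ι b b ∈ Vb ι b := Db_le ι p hodd hb (mon_mem_Db ι b)
  have hb' : b < Fintype.card F := by
    have := Fintype.card_pos (α := F)
    omega
  refine ⟨⟨⟨0, ⟨_, hm⟩, fun h0 => mon_ne_zero ι b (congrArg Subtype.val h0).symm⟩⟩, fun W hW => ?_⟩
  by_cases hW0 : W = ⊥
  · exact Or.inl hW0
  right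
  -- a fixed vector in `W`
  have : Nontrivial W := Submodule.nontrivial_iff_ne_bot.2 hW0
  let r : Representation k (SpecialLinearGroup (Fin 2) F) W := subRep (rb ι p hodd hb) W hW
  obtain ⟨v, hv, hfix⟩ := exists_ufix (k := k) (F := F) (V := W) r p
  have h1 : ((v : Vb ι b) : F × F → k) ∈ Db ι b := fixed_Vb ι hι hb' (v : Vb ι b).2 fun t =>
    congrArg (fun z : W => ((z : Vb ι b) : F × F → k)) (hfix t)
  obtain ⟨c, hc⟩ := Submodule.mem_span_singleton.1 h1
  have hc0 : c ≠ 0 := by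
    rintro rfl
    rw [zero_smul] at hc
    exact hv (Subtype.ext (Subtype.ext hc.symm))
  have h2 : (⟨_, hm⟩ : Vb ι b) ∈ W := by
    have h3 : (⟨_, hm⟩ : Vb ι b) = c⁻¹ • (v : Vb ι b) := by
      apply Subtype.ext
      show mon ι b b = c⁻¹ • ((v : Vb ι b) : F × F → k)
      rw [← hc, smul_smul, inv_mul_cancel₀ hc0, one_smul]
    rw [h3]
    exact Submodule.smul_mem _ _ v.2
  rw [eq_top_iff]
  intro x _
  have h4 : Vb ι b ≤ W.map (Vb ι b).subtype := by
    refine MM_le (fRep k F) (D := Db ι b) ?_ ?_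
    · rintro g _ ⟨y, hy, rfl⟩
      exact ⟨_, hW g y hy, rfl⟩
    · intro d hd
      obtain ⟨c, rfl⟩ := Submodule.mem_span_singleton.1 hd
      exact Submodule.smul_mem _ _ ⟨_, h2, rfl⟩
  obtain ⟨y, hy, e⟩ := h4 x.2
  rwa [← Subtype.ext (p := fun z => z ∈ Vb ι b) e]

end Cfsg.Agent.H943.SL2Mod
end

-- part: H943/SL2Fun
section
prune_inst 0x420440000420200001800008000004000000402000000000220060603000000a940000108200010189000400801000000100080420000000a00000000020100000010042040000802001e000080000000000000000000000000000000000000000000000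
set_option linter.all false
open scoped Cfsg.Agent.FastGrp

-- part: H943/SL2Wt
section
/-!
# Weights of the modules `V_b` (helper943)

* `finrank_eig_rb` : the multiplicities of the eigenvalues of the torus on `V_b`;
* `irr_iso` : every irreducible module over an algebraically closed field is some `V_b`, `b ≤ q - 1`.
-/

set_option autoImplicit false
set_option linter.unusedSectionVars false

namespace Cfsg.Agent.H943.SL2Mod

open Matrix Cfsg.Agent.H943.SL2Rel Cfsg.Agent.H943.RepAdd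

/-- eigenspaces of a diagonal operator -/
theorem finrank_diag {k : Type*} [Field k] [DecidableEq k] {V : Type*} [AddCommGroup V] [Module k V] {I : Type*}
    [Fintype I] [DecidableEq I] (e : (I → k) ≃ₗ[k] V) (A : Module.End k V) (μ : I → k)
    (hA : ∀ x : I → k, A (e x) = e (fun i => μ i * x i)) (ν : k) :
    Module.finrank k (LinearMap.ker (A - ν • (1 : Module.End k V))) = Fintype.card {i // μ i = ν} := by
  rw [← Module.finrank_fintype_fun_eq_card k]
  have hmem : ∀ x : I → k, e x ∈ LinearMap.ker (A - ν • (1 : Module.End k V)) ↔ ∀ i, μ i ≠ ν → x i = 0 := by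
    intro x
    rw [LinearMap.mem_ker, LinearMap.sub_apply, LinearMap.smul_apply, Module.End.one_apply, sub_eq_zero, hA,
      ← map_smul, e.injective.eq_iff]
    constructor
    · intro h i hi
      have h1 : μ i * x i = ν * x i := congrFun h i
      have h2 : (μ i - ν) * x i = 0 := by rw [sub_mul, h1, sub_self]
      exact (mul_eq_zero.1 h2).resolve_left (sub_ne_zero.2 hi)
    · intro h
      funext i
      show μ i * x i = ν * x i
      by_cases hi : μ i = ν
      · rw [hi]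
      · rw [h i hi, mul_zero, mul_zero]
  let f : LinearMap.ker (A - ν • (1 : Module.End k V)) →ₗ[k] ({i // μ i = ν} → k) :=
    { toFun := fun x i => e.symm (x : V) i
      map_add' := fun x y => by
        funext i
        show e.symm ((x : V) + (y : V)) i = e.symm (x : V) i + e.symm (y : V) i
        rw [map_add]; rfl
      map_smul' := fun c x => by
        funext i
        show e.symm (c • (x : V)) i = c • e.symm (x : V) i
        rw [map_smul]; rfl }
  refine LinearEquiv.finrank_eq (LinearEquiv.ofBijective f ⟨?_, ?_⟩)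
  · intro x y h
    apply Subtype.ext
    apply e.symm.injective
    funext i
    by_cases hi : μ i = ν
    · exact congrFun h ⟨i, hi⟩
    · have hx : e (e.symm (x : V)) ∈ LinearMap.ker (A - ν • (1 : Module.End k V)) := by
        rw [LinearEquiv.apply_symm_apply]; exact x.2
      have hy : e (e.symm (y : V)) ∈ LinearMap.ker (A - ν • (1 : Module.End k V)) := by
        rw [LinearEquiv.apply_symm_apply]; exact y.2
      rw [(hmem _).1 hx i hi, (hmem _).1 hy i hi]
  · intro g
    refine ⟨⟨e (fun i => if hi : μ i = ν then g ⟨i, hi⟩ else 0), (hmem _).2 fun i hi => dif_neg hi⟩, ?_⟩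
    funext i
    show e.symm (e _) (i : I) = g i
    rw [LinearEquiv.symm_apply_apply, dif_pos i.2]

variable {k : Type*} [Field k] [DecidableEq k] {F : Type*} [Field F] [Fintype F] [DecidableEq F] (ι : F →+* k)
variable (p : ℕ) [Fact p.Prime] [CharP k p] [CharP F p]

/-- the power sums -/
theorem power_sum_ne {e : ℕ} (he : e ≤ 2 * (Fintype.card F - 1)) (h : ∑ t : F, ι t ^ e ≠ 0) :
    e = Fintype.card F - 1 ∨ e = 2 * (Fintype.card F - 1) := by
  have hq : 1 < Fintype.card F := Fintype.one_lt_card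
  have h1 : ∑ t : F, ι t ^ e = ι (∑ t : F, t ^ e) := by
    rw [map_sum]
    exact Finset.sum_congr rfl fun t _ => (map_pow ι t e).symm
  rw [h1] at h
  have h2 : ∑ t : F, t ^ e ≠ 0 := fun h0 => h (by rw [h0, map_zero])
  by_contra hcon
  push Not at hcon
  by_cases h3 : e < Fintype.card F - 1
  · exact h2 (FiniteField.sum_pow_lt_card_sub_one F e h3)
  · have h4 : ∑ t : F, t ^ e = ∑ t : F, t ^ (e - (Fintype.card F - 1)) := by
      refine Finset.sum_congr rfl fun t _ => ?_
      have h5 : e = (e - (Fintype.card F - 1)) + (Fintype.card F - 1) := by omega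
      by_cases ht : t = 0
      · rw [ht, zero_pow (by omega), zero_pow (by omega)]
      · conv_lhs => rw [h5]
        rw [pow_add, FiniteField.pow_card_sub_one_eq_one t ht, mul_one]
    rw [h4] at h2
    exact h2 (FiniteField.sum_pow_lt_card_sub_one F _ (by omega))

theorem power_sum_eq : ∑ t : F, ι t ^ (Fintype.card F - 1) = -1 := by
  have h1 : ∑ t : F, ι t ^ (Fintype.card F - 1) = ι (∑ t : F, t ^ (Fintype.card F - 1)) := by
    rw [map_sum]
    exact Finset.sum_congr rfl fun t _ => (map_pow ι t _).symm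
  rw [h1, sum_pow_card, map_neg, map_one]

include p in
theorem mon_mem_Vb (hodd : Odd (Fintype.card F)) {b : ℕ} (hb : b ≤ Fintype.card F - 1) {m : ℕ} (hm : m ∈ Bb k b) :
    mon ι b m ∈ Vb ι b := by
  have hmb : mon ι b b ∈ Vb ι b := Db_le ι p hodd hb (mon_mem_Db ι b)
  have hS : ∑ t : F, ι t ^ (Fintype.card F - 1 - m) • fRep k F (u t) (fRep k F w (mon ι b b)) ∈ Vb ι b :=
    sum_mem fun t _ => Submodule.smul_mem _ _ (mem_MM _ t (mon_mem_Db ι b))
  have h1 : ∑ t : F, ι t ^ (Fintype.card F - 1 - m) • fRep k F (u t) (fRep k F w (mon ι b b)) =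
      ∑ m' ∈ Finset.range (b + 1), ((-1) ^ b * (b.choose m' : k) *
        ∑ t : F, ι t ^ (Fintype.card F - 1 - m + m')) • mon ι b m' := by
    have h2 : ∀ t : F, ι t ^ (Fintype.card F - 1 - m) • fRep k F (u t) (fRep k F w (mon ι b b)) =
        ∑ m' ∈ Finset.range (b + 1), ((-1) ^ b * (b.choose m' : k) * ι t ^ (Fintype.card F - 1 - m + m')) •
          mon ι b m' := by
      intro t
      rw [uw_mon, Finset.smul_sum]
      refine Finset.sum_congr rfl fun m' _ => ?_
      rw [smul_smul, pow_add]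
      congr 1
      ring
    rw [Finset.sum_congr rfl fun t _ => h2 t, Finset.sum_comm]
    refine Finset.sum_congr rfl fun m' _ => ?_
    rw [Finset.mul_sum, Finset.sum_smul]
  rw [h1, ← Finset.add_sum_erase _ _ (Finset.mem_range.2 (Nat.lt_succ_iff.2 hm.1))] at hS
  have h3 : ∑ m' ∈ (Finset.range (b + 1)).erase m, ((-1) ^ b * (b.choose m' : k) *
        ∑ t : F, ι t ^ (Fintype.card F - 1 - m + m')) • mon ι b m' ∈ Vb ι b := by
    refine sum_mem fun m' hm' => ?_
    have hne := Finset.ne_of_mem_erase hm'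
    have hle : m' ≤ b := Nat.lt_succ_iff.1 (Finset.mem_range.1 (Finset.mem_of_mem_erase hm'))
    by_cases h0 : ∑ t : F, ι t ^ (Fintype.card F - 1 - m + m') = 0
    · rw [h0, mul_zero, zero_smul]
      exact Submodule.zero_mem _
    · have hm1 := hm.1
      rcases power_sum_ne ι (by omega) h0 with h4 | h4
      · exact absurd (by omega) hne
      · have h5 : m' = b := by omega
        rw [h5]
        exact Submodule.smul_mem _ _ hmb
  have h4 := sub_mem hS h3
  rw [add_sub_cancel_right] at h4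
  have h5 : Fintype.card F - 1 - m + m = Fintype.card F - 1 := by
    have := hm.1
    omega
  rw [h5, power_sum_eq] at h4
  have h6 : (-1 : k) ^ b * (b.choose m : k) * -1 ≠ 0 :=
    mul_ne_zero (mul_ne_zero (pow_ne_zero _ (neg_ne_zero.2 one_ne_zero)) hm.2) (neg_ne_zero.2 one_ne_zero)
  have h7 := Submodule.smul_mem (Vb ι b) ((-1 : k) ^ b * (b.choose m : k) * -1)⁻¹ h4
  rwa [smul_smul, inv_mul_cancel₀ h6, one_smul] at h7

/-- the exponents occurring in `V_b` -/
def Bf (k : Type*) [Field k] [DecidableEq k] (b : ℕ) : Finset ℕ := (Finset.range (b + 1)).filter fun m => (b.choose m : k) ≠ 0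

theorem mem_Bf {b m : ℕ} : m ∈ Bf k b ↔ m ∈ Bb k b := by
  unfold Bf Bb
  rw [Finset.mem_filter, Finset.mem_range, Nat.lt_succ_iff]
  rfl

include p in
/-- coordinates on `V_b` -/
theorem exists_coord (hι : Function.Injective ι) (hodd : Odd (Fintype.card F)) {b : ℕ} (hb : b ≤ Fintype.card F - 1) :
    ∃ e : (Bf k b → k) ≃ₗ[k] Vb ι b, ∀ x, ((e x : Vb ι b) : F × F → k) = ∑ m : Bf k b, x m • mon ι b m := by
  let f : (Bf k b → k) →ₗ[k] Vb ι b :=
    { toFun := fun x => ⟨∑ m : Bf k b, x m • mon ι b m, sum_mem fun m _ =>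
        Submodule.smul_mem _ _ (mon_mem_Vb ι p hodd hb (mem_Bf.1 m.2))⟩
      map_add' := fun x y => Subtype.ext (by
        show ∑ m : Bf k b, (x m + y m) • mon ι b m = ∑ m : Bf k b, x m • mon ι b m + ∑ m : Bf k b, y m • mon ι b m
        rw [← Finset.sum_add_distrib]
        exact Finset.sum_congr rfl fun m _ => add_smul _ _ _)
      map_smul' := fun c x => Subtype.ext (by
        show ∑ m : Bf k b, (c * x m) • mon ι b m = c • ∑ m : Bf k b, x m • mon ι b m
        rw [Finset.smul_sum]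
        exact Finset.sum_congr rfl fun m _ => mul_smul _ _ _) }
  have hq : 1 < Fintype.card F := Fintype.one_lt_card
  refine ⟨LinearEquiv.ofBijective f ⟨?_, ?_⟩, fun x => rfl⟩
  · rw [← LinearMap.ker_eq_bot, LinearMap.ker_eq_bot']
    intro x hx
    have h1 : ∑ m : Bf k b, x m • mon ι b m = 0 := congrArg Subtype.val hx
    let c : ℕ → k := fun m => if hm : m ∈ Bf k b then x ⟨m, hm⟩ else 0
    have h2 : ∀ y : F, ∑ m ∈ Finset.range (b + 1), c m * mon ι b m (1, y) = 0 := by
      intro y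
      have h3 := congrFun h1 (1, y)
      rw [Finset.sum_apply] at h3
      rw [← Finset.sum_subset (Finset.filter_subset (fun m => (b.choose m : k) ≠ 0) (Finset.range (b + 1)))]
      · rw [← Finset.sum_coe_sort]
        refine Eq.trans (Finset.sum_congr rfl fun m _ => ?_) h3
        show c m * mon ι b m (1, y) = x m * mon ι b m (1, y)
        congr 1
        exact dif_pos m.2
      · intro m _ hm
        have h4 : c m = 0 := dif_neg hm
        rw [h4, zero_mul]
    funext m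
    have h5 := mon_indep ι hι (by omega) c h2 m (mem_Bf.1 m.2).1
    have h6 : c m = x m := dif_pos m.2
    rw [← h6, h5]
    rfl
  · rintro ⟨y, hy⟩
    have h1 : Submodule.span k (mon ι b '' Bb k b) ≤ (LinearMap.range f).map (Vb ι b).subtype := by
      refine Submodule.span_le.2 ?_
      rintro _ ⟨m, hm, rfl⟩
      refine ⟨f (Pi.single ⟨m, mem_Bf.2 hm⟩ 1), ⟨_, rfl⟩, ?_⟩
      show ∑ m' : Bf k b, (Pi.single (⟨m, mem_Bf.2 hm⟩ : Bf k b) (1 : k) : Bf k b → k) m' • mon ι b m' = mon ι b m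
      rw [Finset.sum_eq_single (⟨m, mem_Bf.2 hm⟩ : Bf k b)]
      · rw [Pi.single_eq_same, one_smul]
      · intro m' _ hne
        rw [Pi.single_eq_of_ne hne, zero_smul]
      · intro h0
        exact absurd (Finset.mem_univ _) h0
    obtain ⟨z, ⟨x, rfl⟩, e⟩ := h1 (Vb_le ι b hy)
    exact ⟨x, Subtype.ext e⟩

/-- **the multiplicities of the eigenvalues of the torus on `V_b`** -/
theorem finrank_eig_rb (hι : Function.Injective ι) (hodd : Odd (Fintype.card F)) {b : ℕ}
    (hb : b ≤ Fintype.card F - 1) (a : Fˣ) (ν : k) :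
    Module.finrank k (eig (rb ι p hodd hb) (h a) ν) =
      ((Bf k b).filter fun m => ι a ^ m * (ι a)⁻¹ ^ (b - m) = ν).card := by
  obtain ⟨e, he⟩ := exists_coord ι p hι hodd hb
  have h1 := finrank_diag e (rb ι p hodd hb (h a)) (fun m => ι a ^ (m : ℕ) * (ι a)⁻¹ ^ (b - m)) (by
    intro x
    apply Subtype.ext
    rw [he]
    show fRep k F (h a) ((e x : Vb ι b) : F × F → k) = _
    rw [he, map_sum]
    refine Finset.sum_congr rfl fun m _ => ?_
    rw [map_smul, h_mon, smul_smul, mul_comm]) ν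
  unfold eig
  rw [h1, Fintype.card_subtype]
  rw [← Finset.card_map (Function.Embedding.subtype fun m => m ∈ Bf k b)]
  congr 1
  ext m
  simp only [Finset.mem_map, Finset.mem_filter, Finset.mem_univ, true_and, Function.Embedding.coe_subtype]
  constructor
  · rintro ⟨m', h2, rfl⟩
    exact ⟨m'.2, h2⟩
  · rintro ⟨h2, h3⟩
    exact ⟨⟨m, h2⟩, h3, rfl⟩

include p in
theorem finrank_Vb (hι : Function.Injective ι) (hodd : Odd (Fintype.card F)) {b : ℕ}
    (hb : b ≤ Fintype.card F - 1) : Module.finrank k (Vb ι b) = (Bf k b).card := by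
  obtain ⟨e, he⟩ := exists_coord ι p hι hodd hb
  rw [← LinearEquiv.finrank_eq e, Module.finrank_fintype_fun_eq_card, Fintype.card_coe]

section Iso

variable {V : Type*} [AddCommGroup V] [Module k V] (ρ : Representation k (SpecialLinearGroup (Fin 2) F) V)

theorem tsimple_span {v : V} (hv : v ≠ 0) (hT : ∀ a : Fˣ, ∃ c : k, ρ (h a) v = c • v) :
    TSimple ρ (Submodule.span k {v}) := by
  refine ⟨fun h0 => hv (Submodule.span_singleton_eq_bot.1 h0), ?_, ?_⟩
  · intro a d hd
    obtain ⟨c, rfl⟩ := Submodule.mem_span_singleton.1 hd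
    obtain ⟨c', hc'⟩ := hT a
    rw [map_smul, hc']
    exact Submodule.smul_mem _ _ (Submodule.smul_mem _ _ (Submodule.mem_span_singleton_self v))
  · intro D' hle _
    by_cases h0 : D' = ⊥
    · exact Or.inl h0
    · right
      apply le_antisymm hle
      obtain ⟨d, hd, hd0⟩ := Submodule.exists_mem_ne_zero_of_ne_bot h0
      obtain ⟨c, rfl⟩ := Submodule.mem_span_singleton.1 (hle hd)
      have hc : c ≠ 0 := by
        rintro rfl
        exact hd0 (zero_smul _ _)
      rw [Submodule.span_singleton_le_iff_mem]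
      have := Submodule.smul_mem D' c⁻¹ hd
      rwa [smul_smul, inv_mul_cancel₀ hc, one_smul] at this

variable [IsAlgClosed k] [FiniteDimensional k V]

/-- **every irreducible module is some `V_b`** -/
theorem irr_iso (hι : Function.Injective ι) (hodd : Odd (Fintype.card F)) (hI : Irr ρ) :
    ∃ (b : ℕ) (hb : b ≤ Fintype.card F - 1) (φ : Vb ι b ≃ₗ[k] V), ∀ g x, φ (rb ι p hodd hb g x) = ρ g (φ x) := by
  obtain ⟨D, c, G, hD, hc⟩ := exists_type ρ p hI
  have hq : 1 < Fintype.card F := Fintype.one_lt_card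
  -- a generator
  obtain ⟨lam, hlam⟩ := IsCyclic.exists_generator (α := Fˣ)
  have hord : orderOf lam = Fintype.card F - 1 := by
    rw [orderOf_eq_card_of_forall_mem_zpowers hlam, Nat.card_eq_fintype_card, Fintype.card_units]
  have hpow : ∀ a : Fˣ, ∃ i : ℕ, a = lam ^ i := by
    intro a
    obtain ⟨i, hi⟩ := mem_powers_iff_mem_zpowers.2 (hlam a)
    exact ⟨i, hi.symm⟩
  have hprim : IsPrimitiveRoot (ι lam) (Fintype.card F - 1) := by
    have h1 : IsPrimitiveRoot lam (Fintype.card F - 1) := hord ▸ IsPrimitiveRoot.orderOf lam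
    have h2 : IsPrimitiveRoot (lam : F) (Fintype.card F - 1) := IsPrimitiveRoot.coe_units_iff.2 h1
    exact h2.map_of_injective hι
  -- an eigenvector
  have hDn : Nontrivial D := Submodule.nontrivial_iff_ne_bot.2 hD.1
  obtain ⟨μ, hμ⟩ := Module.End.exists_eigenvalue ((ρ (h lam)).restrict (hD.2.1 lam))
  obtain ⟨⟨v, hvD⟩, hv⟩ := hμ.exists_hasEigenvector
  have hv0 : v ≠ 0 := fun h0 => hv.2 (Subtype.ext h0)
  have hve : ρ (h lam) v = μ • v := congrArg Subtype.val hv.apply_eq_smul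
  have hvn : ∀ i : ℕ, ρ (h (lam ^ i)) v = μ ^ i • v := by
    intro i
    rw [h_pow, map_pow]
    exact pow_apply_eig ρ hve i
  have hμn : μ ^ (Fintype.card F - 1) = 1 := by
    have h1 := hvn (Fintype.card F - 1)
    rw [← hord, pow_orderOf_eq_one, h_one, map_one, hord] at h1
    have h2 : (μ ^ (Fintype.card F - 1) - 1) • v = 0 := by
      rw [sub_smul, ← h1, one_smul]
      exact sub_self _
    exact sub_eq_zero.1 ((smul_eq_zero.1 h2).resolve_right hv0)
  have : NeZero (Fintype.card F - 1) := ⟨by omega⟩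
  obtain ⟨j, hj, hjμ⟩ := hprim.eq_pow_of_pow_eq_one hμn
  have hva : ∀ a : Fˣ, ρ (h a) v = ι a ^ j • v := by
    intro a
    obtain ⟨i, rfl⟩ := hpow a
    rw [hvn, ← hjμ, Units.val_pow_eq_pow_val, map_pow, ← pow_mul, ← pow_mul, mul_comm]
  -- the parameter
  obtain ⟨b, hb, hbc, hba⟩ : ∃ b, b ≤ Fintype.card F - 1 ∧ cb k F b = c ∧ ∀ a : Fˣ, ρ (h a) v = ι a ^ b • v := by
    rcases hc with rfl | ⟨rfl, hT⟩
    · exact ⟨j, hj.le, if_pos hj, hva⟩
    · refine ⟨Fintype.card F - 1, le_rfl, if_neg (lt_irrefl _), fun a => ?_⟩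
      rw [hT a v hvD, ← map_pow, FiniteField.pow_card_sub_one_eq_one _ a.ne_zero, map_one, one_smul]
  have hmb : mon ι b b ∈ Vb ι b := Db_le ι p hodd hb (mon_mem_Db ι b)
  let m₀ : Vb ι b := ⟨_, hmb⟩
  have hm₀ : m₀ ≠ 0 := fun h0 => mon_ne_zero ι b (congrArg Subtype.val h0)
  obtain ⟨f, hf⟩ : ∃ f : Vb ι b →ₗ[k] k, f m₀ = 1 := by
    by_contra hcon
    push Not at hcon
    apply hm₀
    have h1 : ∀ g : Vb ι b →ₗ[k] k, g m₀ = 0 := by
      intro g
      by_contra hg
      exact hcon ((g m₀)⁻¹ • g) (by rw [LinearMap.smul_apply, smul_eq_mul, inv_mul_cancel₀ hg])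
    exact (Module.forall_dual_apply_eq_zero_iff k m₀).1 h1
  let θ : Vb ι b →ₗ[k] V := f.smulRight v
  have hθ : θ m₀ = v := by
    show f m₀ • v = v
    rw [hf, one_smul]
  let D₁ : Submodule k (Vb ι b) := Submodule.span k {m₀}
  have hhm : ∀ a : Fˣ, rb ι p hodd hb (h a) m₀ = ι a ^ b • m₀ := by
    intro a
    apply Subtype.ext
    show fRep k F (h a) (mon ι b b) = ι a ^ b • mon ι b b
    rw [h_mon, Nat.sub_self, pow_zero, mul_one]
  have hgood := good_Db ι p hodd hb
  have hum : ∀ t, rb ι p hodd hb (u t) m₀ = m₀ := by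
    intro t
    apply Subtype.ext
    exact hgood.ufix t _ (mon_mem_Db ι b)
  have hsm : SS (rb ι p hodd hb) m₀ = cb k F b • m₀ := by
    apply Subtype.ext
    rw [SS_apply, Submodule.coe_sum]
    show ∑ t : F, fRep k F (u t) (fRep k F w (mon ι b b)) = cb k F b • mon ι b b
    rw [← SS_apply, hgood.ss _ (mon_mem_Db ι b)]
  have G₁ : Good (rb ι p hodd hb) D₁ c := by
    constructor
    · intro a d hd
      obtain ⟨x, rfl⟩ := Submodule.mem_span_singleton.1 hd
      rw [map_smul, hhm]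
      exact Submodule.smul_mem _ _ (Submodule.smul_mem _ _ (Submodule.mem_span_singleton_self _))
    · intro t d hd
      obtain ⟨x, rfl⟩ := Submodule.mem_span_singleton.1 hd
      rw [map_smul, hum]
    · intro d hd
      obtain ⟨x, rfl⟩ := Submodule.mem_span_singleton.1 hd
      rw [map_smul, hsm, hbc, smul_comm]
  have hθh : ∀ a, ∀ d ∈ D₁, θ (rb ι p hodd hb (h a) d) = ρ (h a) (θ d) := by
    intro a d hd
    obtain ⟨x, rfl⟩ := Submodule.mem_span_singleton.1 hd
    rw [map_smul, map_smul, map_smul, map_smul, hhm, map_smul, hθ, hba]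
  have hΓ := graph_good (rb ι p hodd hb) ρ G₁ θ hθh (by
    intro t d hd
    obtain ⟨x, rfl⟩ := Submodule.mem_span_singleton.1 hd
    rw [map_smul, map_smul, hθ, G.ufix t v hvD]) (by
    intro d hd
    obtain ⟨x, rfl⟩ := Submodule.mem_span_singleton.1 hd
    rw [map_smul, map_smul, hθ, G.ss v hvD, smul_comm])
  have hTs : TSimple (rb ι p hodd hb) D₁ := tsimple_span _ hm₀ fun a => ⟨_, hhm a⟩
  have hmem : LinearMap.prod LinearMap.id θ m₀ ∈ D₁.map (LinearMap.prod LinearMap.id θ) :=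
    Submodule.mem_map_of_mem (Submodule.mem_span_singleton_self _)
  obtain ⟨φ, h1, -⟩ := exists_iso (rb ι p hodd hb) ρ p hΓ (graph_tsimple (rb ι p hodd hb) ρ hTs θ hθh)
    (irr_rb ι p hι hodd hb) hI ⟨_, hmem, hm₀⟩ ⟨_, hmem, by
      show θ m₀ ≠ 0
      rw [hθ]
      exact hv0⟩
  exact ⟨b, hb, φ, h1⟩

end Iso

end Cfsg.Agent.H943.SL2Mod
end

-- part: H943/SL2Fun
section
/-!
# Linear inequalities for the weights of modules (helper943)

`fun_nonneg` : an inequality between the multiplicities of the weights which holds for the `V_b` holds for all modules.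
-/

set_option autoImplicit false
set_option linter.unusedSectionVars false

namespace Cfsg.Agent.H943.SL2Mod

open Matrix Cfsg.Agent.H943.SL2Rel Cfsg.Agent.H943.RepAdd

section Iso

variable {k : Type*} [Field k] {G : Type*} [Group G] {V₁ V₂ : Type*} [AddCommGroup V₁] [Module k V₁]
  [AddCommGroup V₂] [Module k V₂] (ρ₁ : Representation k G V₁) (ρ₂ : Representation k G V₂)

theorem finrank_eig_iso (φ : V₁ ≃ₗ[k] V₂) (h : ∀ g x, φ (ρ₁ g x) = ρ₂ g (φ x)) (g : G) (μ : k) :
    Module.finrank k (eig ρ₁ g μ) = Module.finrank k (eig ρ₂ g μ) := by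
  have h1 : ∀ x, x ∈ eig ρ₁ g μ ↔ φ x ∈ eig ρ₂ g μ := by
    intro x
    rw [mem_eig, mem_eig, ← h, ← map_smul, φ.injective.eq_iff]
  have h2 : (eig ρ₁ g μ).map (φ : V₁ →ₗ[k] V₂) = eig ρ₂ g μ := by
    ext y
    constructor
    · rintro ⟨x, hx, rfl⟩
      exact (h1 x).1 hx
    · intro hy
      refine ⟨φ.symm y, (h1 _).2 (by rwa [LinearEquiv.apply_symm_apply]), ?_⟩
      exact φ.apply_symm_apply y
  rw [← h2]
  exact (LinearEquiv.finrank_map_eq φ _).symm

end Iso

variable {k : Type*} [Field k] [DecidableEq k] {F : Type*} [Field F] [Fintype F] [DecidableEq F] (ι : F →+* k)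
variable (p : ℕ) [Fact p.Prime] [CharP k p] [CharP F p]

/-- the value of a linear functional on the weights -/
noncomputable def Phi {V : Type*} [AddCommGroup V] [Module k V] (lam : Fˣ) (f : ℕ → ℤ)
    (ρ : Representation k (SpecialLinearGroup (Fin 2) F) V) : ℤ :=
  ∑ κ ∈ Finset.range (Fintype.card F - 1), f κ * (Module.finrank k (eig ρ (h lam) (ι lam ^ κ)) : ℤ)

/-- the weight of a monomial -/
def wtOf (n b m : ℕ) : ℕ := (m + (n - 1) * (b - m)) % n

theorem primitive (hι : Function.Injective ι) {lam : Fˣ} (hlam : ∀ x, x ∈ Subgroup.zpowers lam) :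
    IsPrimitiveRoot (ι lam) (Fintype.card F - 1) := by
  have hord : orderOf lam = Fintype.card F - 1 := by
    rw [orderOf_eq_card_of_forall_mem_zpowers hlam, Nat.card_eq_fintype_card, Fintype.card_units]
  have h1 : IsPrimitiveRoot lam (Fintype.card F - 1) := hord ▸ IsPrimitiveRoot.orderOf lam
  have h2 : IsPrimitiveRoot (lam : F) (Fintype.card F - 1) := IsPrimitiveRoot.coe_units_iff.2 h1
  exact h2.map_of_injective hι

theorem Phi_rb (hι : Function.Injective ι) (hodd : Odd (Fintype.card F)) {lam : Fˣ}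
    (hlam : ∀ x, x ∈ Subgroup.zpowers lam) (f : ℕ → ℤ) {b : ℕ} (hb : b ≤ Fintype.card F - 1) :
    Phi ι lam f (rb ι p hodd hb) = ∑ m ∈ Bf k b, f (wtOf (Fintype.card F - 1) b m) := by
  have hprim := primitive ι hι hlam
  have hq : 1 < Fintype.card F := Fintype.one_lt_card
  set n := Fintype.card F - 1 with hn
  have hn0 : 0 < n := by omega
  unfold Phi
  have h1 : ∀ m, ι lam ^ m * (ι lam)⁻¹ ^ (b - m) = ι lam ^ wtOf n b m := by
    intro m
    unfold wtOf
    have h2 : (ι lam : k)⁻¹ = ι lam ^ (n - 1) := by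
      apply inv_eq_of_mul_eq_one_left
      rw [← pow_succ, Nat.sub_add_cancel hn0, hprim.pow_eq_one]
    rw [h2, ← pow_mul, ← pow_add]
    rw [← Nat.div_add_mod (m + (n - 1) * (b - m)) n, pow_add, pow_mul, hprim.pow_eq_one, one_pow, one_mul,
      Nat.mul_add_mod_self_left, Nat.mod_mod]
  have h2 : ∀ κ ∈ Finset.range n, f κ * (Module.finrank k (eig (rb ι p hodd hb) (h lam) (ι lam ^ κ)) : ℤ) =
      ∑ m ∈ (Bf k b).filter fun m => wtOf n b m = κ, f (wtOf n b m) := by
    intro κ hκ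
    rw [finrank_eig_rb ι p hι hodd hb]
    have h3 : ((Bf k b).filter fun m => ι lam ^ m * (ι lam)⁻¹ ^ (b - m) = ι lam ^ κ) =
        (Bf k b).filter fun m => wtOf n b m = κ := by
      refine Finset.filter_congr fun m _ => ?_
      rw [h1]
      constructor
      · intro h4
        exact hprim.pow_inj (Nat.mod_lt _ hn0) (Finset.mem_range.1 hκ) h4
      · rintro h4
        rw [h4]
    rw [h3, Finset.sum_congr rfl (g := fun _ => f κ) fun m hm => by rw [(Finset.mem_filter.1 hm).2], Finset.sum_const,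
      nsmul_eq_mul, mul_comm]
  rw [Finset.sum_congr rfl h2]
  exact Finset.sum_fiberwise_of_maps_to (fun m _ => Finset.mem_range.2 (Nat.mod_lt _ hn0)) _

include p in
theorem even_of_h_neg_one (hp2 : p ≠ 2) (hodd : Odd (Fintype.card F)) {b : ℕ} (hb : b ≤ Fintype.card F - 1)
    (h1 : rb ι p hodd hb (h (-1)) = 1) : Even b := by
  have hmb : mon ι b b ∈ Vb ι b := Db_le ι p hodd hb (mon_mem_Db ι b)
  have h2 := congrArg Subtype.val (LinearMap.congr_fun h1 ⟨_, hmb⟩)
  have h3 : fRep k F (h (-1)) (mon ι b b) = mon ι b b := h2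
  rw [h_mon, Nat.sub_self, pow_zero, mul_one] at h3
  have h4 := congrFun h3 ((1 : F), (0 : F))
  have h5 : ι ((-1 : Fˣ) : F) ^ b * mon ι b b (1, 0) = mon ι b b (1, 0) := h4
  rw [mon_self, map_one, one_pow, mul_one, Units.val_neg, Units.val_one, map_neg, map_one] at h5
  by_contra hcon
  rw [Nat.not_even_iff_odd] at hcon
  rw [hcon.neg_one_pow] at h5
  have h6 : (2 : k) = 0 := by linear_combination -h5
  have h7 : ((2 : ℕ) : k) = 0 := by exact_mod_cast h6
  rw [CharP.cast_eq_zero_iff k p] at h7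
  exact hp2 ((Nat.prime_dvd_prime_iff_eq Fact.out Nat.prime_two).1 h7)

variable [IsAlgClosed k]

universe v

/-- **inequalities for the weights** -/
theorem fun_nonneg (hp2 : p ≠ 2) (hι : Function.Injective ι) (hodd : Odd (Fintype.card F)) {lam : Fˣ}
    (hlam : ∀ x, x ∈ Subgroup.zpowers lam) (f : ℕ → ℤ) (d : ℕ)
    (hf : ∀ b ≤ Fintype.card F - 1, Even b → (Bf k b).card ≤ d →
      0 ≤ ∑ m ∈ Bf k b, f (wtOf (Fintype.card F - 1) b m)) (n : ℕ) :
    ∀ (V : Type v) [AddCommGroup V] [Module k V] [FiniteDimensional k V]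
      (ρ : Representation k (SpecialLinearGroup (Fin 2) F) V) (_ : ρ (h (-1)) = 1) (_ : Module.finrank k V = n)
      (_ : n ≤ d), 0 ≤ Phi ι lam f ρ := by
  induction n using Nat.strong_induction_on with
  | _ n ih =>
    intro V _ _ _ ρ h1 hn hnd
    rcases subsingleton_or_nontrivial V with hV | hV
    · unfold Phi
      refine Finset.sum_nonneg fun κ _ => ?_
      rw [Module.finrank_zero_of_subsingleton, Nat.cast_zero, mul_zero]
    · obtain ⟨W, hW, hW0, hmin⟩ := exists_irr_sub ρ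
      have hIW : Irr (subRep ρ W hW) := by
        refine ⟨Submodule.nontrivial_iff_ne_bot.2 hW0, fun W' hW' => ?_⟩
        rcases hmin (W'.map W.subtype) (Submodule.map_subtype_le _ _) (by
          rintro g _ ⟨x, hx, rfl⟩
          exact ⟨_, hW' g x hx, rfl⟩) with h1 | h1
        · left
          rw [eq_bot_iff]
          intro x hx
          have h2 : (x : V) ∈ W'.map W.subtype := ⟨x, hx, rfl⟩
          rw [h1] at h2
          exact (Submodule.mem_bot k).2 (Subtype.ext ((Submodule.mem_bot k).1 h2))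
        · right
          rw [eq_top_iff]
          intro x _
          have h2 : (x : V) ∈ W'.map W.subtype := by rw [h1]; exact x.2
          obtain ⟨y, hy, e⟩ := h2
          rwa [← Subtype.ext (p := fun z => z ∈ W) e]
      have e1 : subRep ρ W hW (h (-1)) = 1 := by
        refine LinearMap.ext fun x => Subtype.ext ?_
        rw [coe_subRep, h1]
        rfl
      have e2 : quotRep ρ W hW (h (-1)) = 1 := by
        refine LinearMap.ext fun x => ?_
        obtain ⟨y, rfl⟩ := W.mkQ_surjective x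
        rw [quotRep_mk, h1]
        rfl
      have hpos : 0 < Module.finrank k W := by
        have := hIW.1
        exact Module.finrank_pos
      have hadd := Submodule.finrank_quotient_add_finrank W
      have i1 := ih (Module.finrank k (V ⧸ W)) (by omega) (V ⧸ W) (quotRep ρ W hW) e2 rfl (by omega)
      -- the irreducible part
      obtain ⟨b, hb, φ, hφ⟩ := irr_iso ι p (subRep ρ W hW) hι hodd hIW
      have i2 : 0 ≤ Phi ι lam f (subRep ρ W hW) := by
        have h2 : Phi ι lam f (subRep ρ W hW) = Phi ι lam f (rb ι p hodd hb) := by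
          unfold Phi
          refine Finset.sum_congr rfl fun κ _ => ?_
          rw [finrank_eig_iso (rb ι p hodd hb) (subRep ρ W hW) φ hφ]
        rw [h2, Phi_rb ι p hι hodd hlam f hb]
        apply hf b hb
        · apply even_of_h_neg_one ι p hp2 hodd hb
          refine LinearMap.ext fun x => φ.injective ?_
          rw [hφ, e1]
          rfl
        · rw [← finrank_Vb ι p hι hodd hb, LinearEquiv.finrank_eq φ]
          omega
      have hprim := primitive ι hι hlam
      have hq : 1 < Fintype.card F := Fintype.one_lt_card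
      have hn0 : ((Fintype.card F - 1 : ℕ) : k) ≠ 0 := by
        rw [Nat.cast_sub hq.le, card_zero (k := k) (F := F) p, Nat.cast_one, zero_sub]
        exact neg_ne_zero.2 one_ne_zero
      have hpow : ρ (h lam) ^ (Fintype.card F - 1) = 1 := by
        rw [← map_pow, ← h_pow]
        have h2 : lam ^ (Fintype.card F - 1) = 1 := by
          rw [← Fintype.card_units]
          exact pow_card_eq_one
        rw [h2, h_one, map_one]
      have h3 : Phi ι lam f ρ = Phi ι lam f (subRep ρ W hW) + Phi ι lam f (quotRep ρ W hW) := by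
        unfold Phi
        rw [← Finset.sum_add_distrib]
        refine Finset.sum_congr rfl fun κ _ => ?_
        rw [finrank_eig ρ W hW hpow hn0 (μ := ι lam ^ κ) (by
          rw [← pow_mul, mul_comm, pow_mul, hprim.pow_eq_one, one_pow])
          (pow_ne_zero _ ((map_ne_zero ι).2 lam.ne_zero)), Nat.cast_add, mul_add]
      rw [h3]
      exact add_nonneg i2 i1

end Cfsg.Agent.H943.SL2Mod
end

private theorem dce_c19a31ed5f1e : _root_.True := by
  try have : _root_.True := by simp only [_root_.Cfsg.Agent.H943.SL2Mod.Bf.congr_simp]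
  exact _root_.True.intro
end

-- part: H179/SLC/Vb
section
prune_inst 0x42044000042020000180580810000400000040200430000022006060b408042a941062128300010189000c44809000000100080420000000a000000011a0180000010062040000802001e000080000000000000000000000000000000000000000000000
set_option linter.all false
open scoped Cfsg.Agent.FastGrp

/-!
# The simple modules of `SL₂(q)`, every characteristic (helper179)

The statements of `H943/SL2Vb.lean` and `H943/SL2Wt.lean` (helper943) for every `q` (there: `q` odd); `he` holds for `q` odd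
and in characteristic 2.
-/

set_option autoImplicit false
set_option linter.unusedSectionVars false

namespace Cfsg.Agent.H179.SLC

open Matrix Cfsg.Agent.H943.SL2Rel Cfsg.Agent.H943.RepAdd Cfsg.Agent.H943.SL2Mod

variable {k : Type*} [Field k] {F : Type*} [Field F] [Fintype F] [DecidableEq F] (ι : F →+* k)
variable (p : ℕ) [Fact p.Prime] [CharP k p] [CharP F p]

include p in
theorem SS_mon_eq (hs1 : (-1 : k) ^ (Fintype.card F - 1) = 1) : SS (fRep k F) (mon ι (Fintype.card F - 1) (Fintype.card F - 1)) =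
    (-1 : k) • mon ι (Fintype.card F - 1) (Fintype.card F - 1) := by
  rw [SS_mon, card_zero (k := k) (F := F) p, sum_pow_card]
  funext z
  have h0 : Fintype.card F - 1 ≠ 0 := by
    have : 1 < Fintype.card F := Fintype.one_lt_card
    omega
  show _ = (-1 : k) * mon ι (Fintype.card F - 1) (Fintype.card F - 1) z
  rw [mon_self]
  by_cases hz : z.1 = 0
  · rw [if_pos hz, zero_mul, hz, map_zero, zero_pow h0, mul_zero]
  · rw [if_neg hz, ← map_pow, FiniteField.pow_card_sub_one_eq_one _ hz, map_one, map_neg, map_one, hs1, one_mul, mul_one]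

include p in
theorem good_Db (hs1 : (-1 : k) ^ (Fintype.card F - 1) = 1) {b : ℕ} (hb : b ≤ Fintype.card F - 1) :
    Good (fRep k F) (Db ι b) (cb k F b) := by
  constructor
  · intro a d hd
    obtain ⟨c, rfl⟩ := Submodule.mem_span_singleton.1 hd
    rw [map_smul, h_mon]
    exact Submodule.smul_mem _ _ (Submodule.smul_mem _ _ (mon_mem_Db ι b))
  · intro t d hd
    obtain ⟨c, rfl⟩ := Submodule.mem_span_singleton.1 hd
    rw [map_smul]
    congr 1
    funext z
    obtain ⟨x, y⟩ := z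
    rw [fRep_u, mon_self, mon_self]
  · intro d hd
    obtain ⟨c, rfl⟩ := Submodule.mem_span_singleton.1 hd
    rw [map_smul]
    unfold cb
    by_cases h : b < Fintype.card F - 1
    · rw [if_pos h, SS_mon_lt ι p h, smul_zero, zero_smul]
    · have hb' : b = Fintype.card F - 1 := by omega
      rw [if_neg h, hb', SS_mon_eq ι p hs1, smul_comm]

include p in
theorem inv_Vb (hs1 : (-1 : k) ^ (Fintype.card F - 1) = 1) {b : ℕ} (hb : b ≤ Fintype.card F - 1) : Inv (fRep k F) (Vb ι b) :=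
  inv_MM _ (good_Db ι p hs1 hb)

include p in
theorem Db_le (hs1 : (-1 : k) ^ (Fintype.card F - 1) = 1) {b : ℕ} (hb : b ≤ Fintype.card F - 1) : Db ι b ≤ Vb ι b :=
  le_MM _ (good_Db ι p hs1 hb)

/-- the representation on `V_b` -/
def rb (hs1 : (-1 : k) ^ (Fintype.card F - 1) = 1) {b : ℕ} (hb : b ≤ Fintype.card F - 1) :
    Representation k (SpecialLinearGroup (Fin 2) F) (Vb ι b) :=
  subRep (fRep k F) (Vb ι b) (inv_Vb ι p hs1 hb)

/-- **`V_b` is irreducible** -/
theorem irr_rb (hι : Function.Injective ι) (hs1 : (-1 : k) ^ (Fintype.card F - 1) = 1) {b : ℕ} (hb : b ≤ Fintype.card F - 1) :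
    Irr (rb ι p hs1 hb) := by
  have hm : mon ι b b ∈ Vb ι b := Db_le ι p hs1 hb (mon_mem_Db ι b)
  have hb' : b < Fintype.card F := by
    have := Fintype.card_pos (α := F)
    omega
  refine ⟨⟨⟨0, ⟨_, hm⟩, fun h0 => mon_ne_zero ι b (congrArg Subtype.val h0).symm⟩⟩, fun W hW => ?_⟩
  by_cases hW0 : W = ⊥
  · exact Or.inl hW0
  right
  -- a fixed vector in `W`
  have : Nontrivial W := Submodule.nontrivial_iff_ne_bot.2 hW0
  let r : Representation k (SpecialLinearGroup (Fin 2) F) W := subRep (rb ι p hs1 hb) W hW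
  obtain ⟨v, hv, hfix⟩ := exists_ufix (k := k) (F := F) (V := W) r p
  have h1 : ((v : Vb ι b) : F × F → k) ∈ Db ι b := fixed_Vb ι hι hb' (v : Vb ι b).2 fun t =>
    congrArg (fun z : W => ((z : Vb ι b) : F × F → k)) (hfix t)
  obtain ⟨c, hc⟩ := Submodule.mem_span_singleton.1 h1
  have hc0 : c ≠ 0 := by
    rintro rfl
    rw [zero_smul] at hc
    exact hv (Subtype.ext (Subtype.ext hc.symm))
  have h2 : (⟨_, hm⟩ : Vb ι b) ∈ W := by
    have h3 : (⟨_, hm⟩ : Vb ι b) = c⁻¹ • (v : Vb ι b) := by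
      apply Subtype.ext
      show mon ι b b = c⁻¹ • ((v : Vb ι b) : F × F → k)
      rw [← hc, smul_smul, inv_mul_cancel₀ hc0, one_smul]
    rw [h3]
    exact Submodule.smul_mem _ _ v.2
  rw [eq_top_iff]
  intro x _
  have h4 : Vb ι b ≤ W.map (Vb ι b).subtype := by
    refine MM_le (fRep k F) (D := Db ι b) ?_ ?_
    · rintro g _ ⟨y, hy, rfl⟩
      exact ⟨_, hW g y hy, rfl⟩
    · intro d hd
      obtain ⟨c, rfl⟩ := Submodule.mem_span_singleton.1 hd
      exact Submodule.smul_mem _ _ ⟨_, h2, rfl⟩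
  obtain ⟨y, hy, e⟩ := h4 x.2
  rwa [← Subtype.ext (p := fun z => z ∈ Vb ι b) e]


variable [DecidableEq k]

include p in
theorem mon_mem_Vb (hs1 : (-1 : k) ^ (Fintype.card F - 1) = 1) {b : ℕ} (hb : b ≤ Fintype.card F - 1) {m : ℕ} (hm : m ∈ Bb k b) :
    mon ι b m ∈ Vb ι b := by
  have hmb : mon ι b b ∈ Vb ι b := Db_le ι p hs1 hb (mon_mem_Db ι b)
  have hS : ∑ t : F, ι t ^ (Fintype.card F - 1 - m) • fRep k F (u t) (fRep k F w (mon ι b b)) ∈ Vb ι b :=
    sum_mem fun t _ => Submodule.smul_mem _ _ (mem_MM _ t (mon_mem_Db ι b))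
  have h1 : ∑ t : F, ι t ^ (Fintype.card F - 1 - m) • fRep k F (u t) (fRep k F w (mon ι b b)) =
      ∑ m' ∈ Finset.range (b + 1), ((-1) ^ b * (b.choose m' : k) *
        ∑ t : F, ι t ^ (Fintype.card F - 1 - m + m')) • mon ι b m' := by
    have h2 : ∀ t : F, ι t ^ (Fintype.card F - 1 - m) • fRep k F (u t) (fRep k F w (mon ι b b)) =
        ∑ m' ∈ Finset.range (b + 1), ((-1) ^ b * (b.choose m' : k) * ι t ^ (Fintype.card F - 1 - m + m')) •
          mon ι b m' := by
      intro t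
      rw [uw_mon, Finset.smul_sum]
      refine Finset.sum_congr rfl fun m' _ => ?_
      rw [smul_smul, pow_add]
      congr 1
      ring
    rw [Finset.sum_congr rfl fun t _ => h2 t, Finset.sum_comm]
    refine Finset.sum_congr rfl fun m' _ => ?_
    rw [Finset.mul_sum, Finset.sum_smul]
  rw [h1, ← Finset.add_sum_erase _ _ (Finset.mem_range.2 (Nat.lt_succ_iff.2 hm.1))] at hS
  have h3 : ∑ m' ∈ (Finset.range (b + 1)).erase m, ((-1) ^ b * (b.choose m' : k) *
        ∑ t : F, ι t ^ (Fintype.card F - 1 - m + m')) • mon ι b m' ∈ Vb ι b := by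
    refine sum_mem fun m' hm' => ?_
    have hne := Finset.ne_of_mem_erase hm'
    have hle : m' ≤ b := Nat.lt_succ_iff.1 (Finset.mem_range.1 (Finset.mem_of_mem_erase hm'))
    by_cases h0 : ∑ t : F, ι t ^ (Fintype.card F - 1 - m + m') = 0
    · rw [h0, mul_zero, zero_smul]
      exact Submodule.zero_mem _
    · have hm1 := hm.1
      rcases power_sum_ne ι (by omega) h0 with h4 | h4
      · exact absurd (by omega) hne
      · have h5 : m' = b := by omega
        rw [h5]
        exact Submodule.smul_mem _ _ hmb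
  have h4 := sub_mem hS h3
  rw [add_sub_cancel_right] at h4
  have h5 : Fintype.card F - 1 - m + m = Fintype.card F - 1 := by
    have := hm.1
    omega
  rw [h5, power_sum_eq] at h4
  have h6 : (-1 : k) ^ b * (b.choose m : k) * -1 ≠ 0 :=
    mul_ne_zero (mul_ne_zero (pow_ne_zero _ (neg_ne_zero.2 one_ne_zero)) hm.2) (neg_ne_zero.2 one_ne_zero)
  have h7 := Submodule.smul_mem (Vb ι b) ((-1 : k) ^ b * (b.choose m : k) * -1)⁻¹ h4
  rwa [smul_smul, inv_mul_cancel₀ h6, one_smul] at h7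

include p in
/-- coordinates on `V_b` -/
theorem exists_coord (hι : Function.Injective ι) (hs1 : (-1 : k) ^ (Fintype.card F - 1) = 1) {b : ℕ} (hb : b ≤ Fintype.card F - 1) :
    ∃ e : (Bf k b → k) ≃ₗ[k] Vb ι b, ∀ x, ((e x : Vb ι b) : F × F → k) = ∑ m : Bf k b, x m • mon ι b m := by
  let f : (Bf k b → k) →ₗ[k] Vb ι b :=
    { toFun := fun x => ⟨∑ m : Bf k b, x m • mon ι b m, sum_mem fun m _ =>
        Submodule.smul_mem _ _ (mon_mem_Vb ι p hs1 hb (mem_Bf.1 m.2))⟩
      map_add' := fun x y => Subtype.ext (by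
        show ∑ m : Bf k b, (x m + y m) • mon ι b m = ∑ m : Bf k b, x m • mon ι b m + ∑ m : Bf k b, y m • mon ι b m
        rw [← Finset.sum_add_distrib]
        exact Finset.sum_congr rfl fun m _ => add_smul _ _ _)
      map_smul' := fun c x => Subtype.ext (by
        show ∑ m : Bf k b, (c * x m) • mon ι b m = c • ∑ m : Bf k b, x m • mon ι b m
        rw [Finset.smul_sum]
        exact Finset.sum_congr rfl fun m _ => mul_smul _ _ _) }
  have hq : 1 < Fintype.card F := Fintype.one_lt_card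
  refine ⟨LinearEquiv.ofBijective f ⟨?_, ?_⟩, fun x => rfl⟩
  · rw [← LinearMap.ker_eq_bot, LinearMap.ker_eq_bot']
    intro x hx
    have h1 : ∑ m : Bf k b, x m • mon ι b m = 0 := congrArg Subtype.val hx
    let c : ℕ → k := fun m => if hm : m ∈ Bf k b then x ⟨m, hm⟩ else 0
    have h2 : ∀ y : F, ∑ m ∈ Finset.range (b + 1), c m * mon ι b m (1, y) = 0 := by
      intro y
      have h3 := congrFun h1 (1, y)
      rw [Finset.sum_apply] at h3
      rw [← Finset.sum_subset (Finset.filter_subset (fun m => (b.choose m : k) ≠ 0) (Finset.range (b + 1)))]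
      · rw [← Finset.sum_coe_sort]
        refine Eq.trans (Finset.sum_congr rfl fun m _ => ?_) h3
        show c m * mon ι b m (1, y) = x m * mon ι b m (1, y)
        congr 1
        exact dif_pos m.2
      · intro m _ hm
        have h4 : c m = 0 := dif_neg hm
        rw [h4, zero_mul]
    funext m
    have h5 := mon_indep ι hι (by omega) c h2 m (mem_Bf.1 m.2).1
    have h6 : c m = x m := dif_pos m.2
    rw [← h6, h5]
    rfl
  · rintro ⟨y, hy⟩
    have h1 : Submodule.span k (mon ι b '' Bb k b) ≤ (LinearMap.range f).map (Vb ι b).subtype := by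
      refine Submodule.span_le.2 ?_
      rintro _ ⟨m, hm, rfl⟩
      refine ⟨f (Pi.single ⟨m, mem_Bf.2 hm⟩ 1), ⟨_, rfl⟩, ?_⟩
      show ∑ m' : Bf k b, (Pi.single (⟨m, mem_Bf.2 hm⟩ : Bf k b) (1 : k) : Bf k b → k) m' • mon ι b m' = mon ι b m
      rw [Finset.sum_eq_single (⟨m, mem_Bf.2 hm⟩ : Bf k b)]
      · rw [Pi.single_eq_same, one_smul]
      · intro m' _ hne
        rw [Pi.single_eq_of_ne hne, zero_smul]
      · intro h0
        exact absurd (Finset.mem_univ _) h0
    obtain ⟨z, ⟨x, rfl⟩, e⟩ := h1 (Vb_le ι b hy)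
    exact ⟨x, Subtype.ext e⟩

include p in
theorem finrank_Vb (hι : Function.Injective ι) (hs1 : (-1 : k) ^ (Fintype.card F - 1) = 1) {b : ℕ}
    (hb : b ≤ Fintype.card F - 1) : Module.finrank k (Vb ι b) = (Bf k b).card := by
  obtain ⟨e, he⟩ := exists_coord ι p hι hs1 hb
  rw [← LinearEquiv.finrank_eq e, Module.finrank_fintype_fun_eq_card, Fintype.card_coe]

section Iso

variable {V : Type*} [AddCommGroup V] [Module k V] (ρ : Representation k (SpecialLinearGroup (Fin 2) F) V)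

variable [IsAlgClosed k] [FiniteDimensional k V]

/-- **every irreducible module is some `V_b`** -/
theorem irr_iso (hι : Function.Injective ι) (hs1 : (-1 : k) ^ (Fintype.card F - 1) = 1) (hI : Irr ρ) :
    ∃ (b : ℕ) (hb : b ≤ Fintype.card F - 1) (φ : Vb ι b ≃ₗ[k] V), ∀ g x, φ (rb ι p hs1 hb g x) = ρ g (φ x) := by
  obtain ⟨D, c, G, hD, hc⟩ := exists_type ρ p hI
  have hq : 1 < Fintype.card F := Fintype.one_lt_card
  -- a generator
  obtain ⟨lam, hlam⟩ := IsCyclic.exists_generator (α := Fˣ)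
  have hord : orderOf lam = Fintype.card F - 1 := by
    rw [orderOf_eq_card_of_forall_mem_zpowers hlam, Nat.card_eq_fintype_card, Fintype.card_units]
  have hpow : ∀ a : Fˣ, ∃ i : ℕ, a = lam ^ i := by
    intro a
    obtain ⟨i, hi⟩ := mem_powers_iff_mem_zpowers.2 (hlam a)
    exact ⟨i, hi.symm⟩
  have hprim : IsPrimitiveRoot (ι lam) (Fintype.card F - 1) := by
    have h1 : IsPrimitiveRoot lam (Fintype.card F - 1) := hord ▸ IsPrimitiveRoot.orderOf lam
    have h2 : IsPrimitiveRoot (lam : F) (Fintype.card F - 1) := IsPrimitiveRoot.coe_units_iff.2 h1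
    exact h2.map_of_injective hι
  -- an eigenvector
  have hDn : Nontrivial D := Submodule.nontrivial_iff_ne_bot.2 hD.1
  obtain ⟨μ, hμ⟩ := Module.End.exists_eigenvalue ((ρ (h lam)).restrict (hD.2.1 lam))
  obtain ⟨⟨v, hvD⟩, hv⟩ := hμ.exists_hasEigenvector
  have hv0 : v ≠ 0 := fun h0 => hv.2 (Subtype.ext h0)
  have hve : ρ (h lam) v = μ • v := congrArg Subtype.val hv.apply_eq_smul
  have hvn : ∀ i : ℕ, ρ (h (lam ^ i)) v = μ ^ i • v := by
    intro i
    rw [h_pow, map_pow]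
    exact pow_apply_eig ρ hve i
  have hμn : μ ^ (Fintype.card F - 1) = 1 := by
    have h1 := hvn (Fintype.card F - 1)
    rw [← hord, pow_orderOf_eq_one, h_one, map_one, hord] at h1
    have h2 : (μ ^ (Fintype.card F - 1) - 1) • v = 0 := by
      rw [sub_smul, ← h1, one_smul]
      exact sub_self _
    exact sub_eq_zero.1 ((smul_eq_zero.1 h2).resolve_right hv0)
  have : NeZero (Fintype.card F - 1) := ⟨by omega⟩
  obtain ⟨j, hj, hjμ⟩ := hprim.eq_pow_of_pow_eq_one hμn
  have hva : ∀ a : Fˣ, ρ (h a) v = ι a ^ j • v := by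
    intro a
    obtain ⟨i, rfl⟩ := hpow a
    rw [hvn, ← hjμ, Units.val_pow_eq_pow_val, map_pow, ← pow_mul, ← pow_mul, mul_comm]
  -- the parameter
  obtain ⟨b, hb, hbc, hba⟩ : ∃ b, b ≤ Fintype.card F - 1 ∧ cb k F b = c ∧ ∀ a : Fˣ, ρ (h a) v = ι a ^ b • v := by
    rcases hc with rfl | ⟨rfl, hT⟩
    · exact ⟨j, hj.le, if_pos hj, hva⟩
    · refine ⟨Fintype.card F - 1, le_rfl, if_neg (lt_irrefl _), fun a => ?_⟩
      rw [hT a v hvD, ← map_pow, FiniteField.pow_card_sub_one_eq_one _ a.ne_zero, map_one, one_smul]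
  have hmb : mon ι b b ∈ Vb ι b := Db_le ι p hs1 hb (mon_mem_Db ι b)
  let m₀ : Vb ι b := ⟨_, hmb⟩
  have hm₀ : m₀ ≠ 0 := fun h0 => mon_ne_zero ι b (congrArg Subtype.val h0)
  obtain ⟨f, hf⟩ : ∃ f : Vb ι b →ₗ[k] k, f m₀ = 1 := by
    by_contra hcon
    push Not at hcon
    apply hm₀
    have h1 : ∀ g : Vb ι b →ₗ[k] k, g m₀ = 0 := by
      intro g
      by_contra hg
      exact hcon ((g m₀)⁻¹ • g) (by rw [LinearMap.smul_apply, smul_eq_mul, inv_mul_cancel₀ hg])
    exact (Module.forall_dual_apply_eq_zero_iff k m₀).1 h1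
  let θ : Vb ι b →ₗ[k] V := f.smulRight v
  have hθ : θ m₀ = v := by
    show f m₀ • v = v
    rw [hf, one_smul]
  let D₁ : Submodule k (Vb ι b) := Submodule.span k {m₀}
  have hhm : ∀ a : Fˣ, rb ι p hs1 hb (h a) m₀ = ι a ^ b • m₀ := by
    intro a
    apply Subtype.ext
    show fRep k F (h a) (mon ι b b) = ι a ^ b • mon ι b b
    rw [h_mon, Nat.sub_self, pow_zero, mul_one]
  have hgood := good_Db ι p hs1 hb
  have hum : ∀ t, rb ι p hs1 hb (u t) m₀ = m₀ := by
    intro t
    apply Subtype.ext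
    exact hgood.ufix t _ (mon_mem_Db ι b)
  have hsm : SS (rb ι p hs1 hb) m₀ = cb k F b • m₀ := by
    apply Subtype.ext
    rw [SS_apply, Submodule.coe_sum]
    show ∑ t : F, fRep k F (u t) (fRep k F w (mon ι b b)) = cb k F b • mon ι b b
    rw [← SS_apply, hgood.ss _ (mon_mem_Db ι b)]
  have G₁ : Good (rb ι p hs1 hb) D₁ c := by
    constructor
    · intro a d hd
      obtain ⟨x, rfl⟩ := Submodule.mem_span_singleton.1 hd
      rw [map_smul, hhm]
      exact Submodule.smul_mem _ _ (Submodule.smul_mem _ _ (Submodule.mem_span_singleton_self _))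
    · intro t d hd
      obtain ⟨x, rfl⟩ := Submodule.mem_span_singleton.1 hd
      rw [map_smul, hum]
    · intro d hd
      obtain ⟨x, rfl⟩ := Submodule.mem_span_singleton.1 hd
      rw [map_smul, hsm, hbc, smul_comm]
  have hθh : ∀ a, ∀ d ∈ D₁, θ (rb ι p hs1 hb (h a) d) = ρ (h a) (θ d) := by
    intro a d hd
    obtain ⟨x, rfl⟩ := Submodule.mem_span_singleton.1 hd
    rw [map_smul, map_smul, map_smul, map_smul, hhm, map_smul, hθ, hba]
  have hΓ := graph_good (rb ι p hs1 hb) ρ G₁ θ hθh (by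
    intro t d hd
    obtain ⟨x, rfl⟩ := Submodule.mem_span_singleton.1 hd
    rw [map_smul, map_smul, hθ, G.ufix t v hvD]) (by
    intro d hd
    obtain ⟨x, rfl⟩ := Submodule.mem_span_singleton.1 hd
    rw [map_smul, map_smul, hθ, G.ss v hvD, smul_comm])
  have hTs : TSimple (rb ι p hs1 hb) D₁ := tsimple_span _ hm₀ fun a => ⟨_, hhm a⟩
  have hmem : LinearMap.prod LinearMap.id θ m₀ ∈ D₁.map (LinearMap.prod LinearMap.id θ) :=
    Submodule.mem_map_of_mem (Submodule.mem_span_singleton_self _)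
  obtain ⟨φ, h1, -⟩ := exists_iso (rb ι p hs1 hb) ρ p hΓ (graph_tsimple (rb ι p hs1 hb) ρ hTs θ hθh)
    (irr_rb ι p hι hs1 hb) hI ⟨_, hmem, hm₀⟩ ⟨_, hmem, by
      show θ m₀ ≠ 0
      rw [hθ]
      exact hv0⟩
  exact ⟨b, hb, φ, h1⟩

end Iso

end Cfsg.Agent.H179.SLC
end

-- part: H179/SLC/Coc
section
set_option linter.all false
open scoped Cfsg.Agent.FastGrp

/-!
# Cocycles (helper179)

`Z1 ρ` : the 1-cocycles of a representation of a finite group; `finrank_le` : `dim V ≤ dim V ^ G + dim Z1`;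
`finrank_Z1_le` : subadditivity of `dim Z1`; `cob_of_res` : a cocycle which vanishes on a subgroup of index prime to the
characteristic is a coboundary.
-/

set_option autoImplicit false
set_option linter.unusedSectionVars false

namespace Cfsg.Agent.H179.SLC

open Cfsg.Agent.H943.RepAdd

variable {k : Type*} [Field k] {G : Type*} [Group G] {V : Type*} [AddCommGroup V] [Module k V]
  (ρ : Representation k G V)

/-- the 1-cocycles -/
def Z1 : Submodule k (G → V) where
  carrier := {c | ∀ g h, c (g * h) = c g + ρ g (c h)}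
  zero_mem' := fun g h => by simp
  add_mem' := fun {a b} ha hb g h => by
    show a (g * h) + b (g * h) = a g + b g + ρ g (a h + b h)
    rw [ha, hb, map_add]
    abel
  smul_mem' := fun c x hx g h => by
    show c • x (g * h) = c • x g + ρ g (c • x h)
    rw [hx, map_smul, smul_add]

theorem mem_Z1 {c : G → V} : c ∈ Z1 ρ ↔ ∀ g h, c (g * h) = c g + ρ g (c h) := Iff.rfl

/-- the coboundary map -/
def cob : V →ₗ[k] Z1 ρ where
  toFun v := ⟨fun g => ρ g v - v, fun g h => by
    show ρ (g * h) v - v = ρ g v - v + ρ g (ρ h v - v)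
    rw [map_mul, map_sub, Module.End.mul_apply]; abel⟩
  map_add' x y := Subtype.ext (funext fun g => by
    show ρ g (x + y) - (x + y) = (ρ g x - x) + (ρ g y - y)
    rw [map_add]; abel)
  map_smul' c x := Subtype.ext (funext fun g => by
    show ρ g (c • x) - c • x = c • (ρ g x - x)
    rw [map_smul, smul_sub])

theorem cob_apply (v : V) (g : G) : (cob ρ v : G → V) g = ρ g v - v := rfl

/-- the fixed vectors -/
def fx : Submodule k V where
  carrier := {x | ∀ g, ρ g x = x}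
  zero_mem' := fun g => map_zero _
  add_mem' := fun {a b} ha hb g => by rw [map_add, ha, hb]
  smul_mem' := fun c x hx g => by rw [map_smul, hx]

theorem mem_fx {x : V} : x ∈ fx ρ ↔ ∀ g, ρ g x = x := Iff.rfl

theorem ker_cob : LinearMap.ker (cob ρ) = fx ρ := by
  ext x
  rw [LinearMap.mem_ker, mem_fx]
  constructor
  · intro h g
    have h1 := congrFun (congrArg Subtype.val h) g
    exact sub_eq_zero.1 h1
  · intro h
    exact Subtype.ext (funext fun g => sub_eq_zero.2 (h g))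

theorem Z1_one (c : Z1 ρ) : (c : G → V) 1 = 0 := by
  have h := c.2 1 1
  rw [one_mul, map_one, Module.End.one_apply] at h
  have h2 : (c : G → V) 1 + 0 = (c : G → V) 1 + (c : G → V) 1 := by rw [add_zero]; exact h
  exact (add_left_cancel h2).symm

section Finite

variable [Finite G] [FiniteDimensional k V]

/-- `dim V ≤ dim V ^ G + dim Z1` -/
theorem finrank_le : Module.finrank k V ≤ Module.finrank k (fx ρ) + Module.finrank k (Z1 ρ) := by
  have h := LinearMap.finrank_range_add_finrank_ker (cob ρ)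
  rw [ker_cob] at h
  have h2 := Submodule.finrank_le (LinearMap.range (cob ρ))
  omega

/-- subadditivity -/
theorem finrank_Z1_le (W : Submodule k V) (hW : ∀ g, ∀ x ∈ W, ρ g x ∈ W) :
    Module.finrank k (Z1 ρ) ≤ Module.finrank k (Z1 (subRep ρ W hW)) + Module.finrank k (Z1 (quotRep ρ W hW)) := by
  let f : Z1 ρ →ₗ[k] Z1 (quotRep ρ W hW) :=
    { toFun := fun c => ⟨fun g => W.mkQ (c.1 g), fun g h => by
        show W.mkQ (c.1 (g * h)) = W.mkQ (c.1 g) + quotRep ρ W hW g (W.mkQ (c.1 h))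
        rw [c.2, map_add, quotRep_mk]⟩
      map_add' := fun x y => Subtype.ext (funext fun g => by
        show W.mkQ (x.1 g + y.1 g) = W.mkQ (x.1 g) + W.mkQ (y.1 g)
        rw [map_add])
      map_smul' := fun a x => Subtype.ext (funext fun g => by
        show W.mkQ (a • x.1 g) = a • W.mkQ (x.1 g)
        rw [map_smul]) }
  have h := LinearMap.finrank_range_add_finrank_ker f
  have h1 : Module.finrank k (LinearMap.range f) ≤ Module.finrank k (Z1 (quotRep ρ W hW)) := Submodule.finrank_le _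
  have hmem : ∀ c : LinearMap.ker f, ∀ g, (c : Z1 ρ).1 g ∈ W := by
    intro c g
    have h3 : f (c : Z1 ρ) = 0 := c.2
    have h4 := congrFun (congrArg Subtype.val h3) g
    exact (Submodule.Quotient.mk_eq_zero W).1 h4
  let e : LinearMap.ker f →ₗ[k] Z1 (subRep ρ W hW) :=
    { toFun := fun c => ⟨fun g => ⟨(c : Z1 ρ).1 g, hmem c g⟩, fun g h => Subtype.ext ((c : Z1 ρ).2 g h)⟩
      map_add' := fun x y => rfl
      map_smul' := fun a x => rfl }
  have he : Function.Injective e := by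
    intro x y hxy
    apply Subtype.ext
    apply Subtype.ext
    funext g
    exact congrArg Subtype.val (congrFun (congrArg Subtype.val hxy) g)
  have h2 := LinearMap.finrank_le_finrank_of_injective he
  omega

end Finite

/-- transport along an isomorphism -/
theorem finrank_Z1_iso {V₂ : Type*} [AddCommGroup V₂] [Module k V₂] (ρ₂ : Representation k G V₂) (φ : V ≃ₗ[k] V₂)
    (h : ∀ g x, φ (ρ g x) = ρ₂ g (φ x)) : Module.finrank k (Z1 ρ) = Module.finrank k (Z1 ρ₂) := by
  have h' : ∀ g x, φ.symm (ρ₂ g x) = ρ g (φ.symm x) := by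
    intro g x
    apply φ.injective
    rw [LinearEquiv.apply_symm_apply, h, LinearEquiv.apply_symm_apply]
  let e : Z1 ρ ≃ₗ[k] Z1 ρ₂ :=
    { toFun := fun c => ⟨fun g => φ (c.1 g), fun g g' => by
        show φ (c.1 (g * g')) = φ (c.1 g) + ρ₂ g (φ (c.1 g'))
        rw [c.2, map_add, h]⟩
      invFun := fun c => ⟨fun g => φ.symm (c.1 g), fun g g' => by
        show φ.symm (c.1 (g * g')) = φ.symm (c.1 g) + ρ g (φ.symm (c.1 g'))
        rw [c.2, map_add, h']⟩
      left_inv := fun c => Subtype.ext (funext fun g => φ.symm_apply_apply _)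
      right_inv := fun c => Subtype.ext (funext fun g => φ.apply_symm_apply _)
      map_add' := fun x y => Subtype.ext (funext fun g => map_add φ _ _)
      map_smul' := fun a x => Subtype.ext (funext fun g => map_smul φ _ _) }
  exact e.finrank_eq

/-- a cocycle which vanishes on a subgroup of index prime to the characteristic is a coboundary -/
theorem cob_of_res [Finite G] (H : Subgroup G) (hH : (H.index : k) ≠ 0) {c : G → V} (hc : c ∈ Z1 ρ)
    (h0 : ∀ g ∈ H, c g = 0) : ∃ v, ∀ g, c g = ρ g v - v := by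
  classical
  have : Fintype (G ⧸ H) := Fintype.ofFinite _
  have hwd : ∀ a b : G, QuotientGroup.leftRel H a b → c a = c b := by
    intro a b hab
    rw [QuotientGroup.leftRel_apply] at hab
    have h1 : b = a * (a⁻¹ * b) := by group
    rw [h1, hc, h0 _ hab, map_zero, add_zero]
  let d : G ⧸ H → V := fun x => Quotient.liftOn' x c hwd
  have hd : ∀ g : G, d (g : G ⧸ H) = c g := fun g => rfl
  have hgd : ∀ (g : G) (x : G ⧸ H), ρ g (d x) = d (g • x) - c g := by
    intro g x
    obtain ⟨a, rfl⟩ := QuotientGroup.mk_surjective x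
    have h1 : g • (a : G ⧸ H) = ((g * a : G) : G ⧸ H) := rfl
    rw [h1, hd, hd, hc]
    abel
  refine ⟨-((H.index : k)⁻¹ • ∑ x : G ⧸ H, d x), fun g => ?_⟩
  have h1 : ρ g (∑ x : G ⧸ H, d x) = ∑ x : G ⧸ H, d x - (H.index : k) • c g := by
    rw [map_sum, Finset.sum_congr rfl fun x _ => hgd g x, Finset.sum_sub_distrib, Finset.sum_const, Finset.card_univ,
      Nat.cast_smul_eq_nsmul]
    congr 1
    · exact Fintype.sum_equiv (MulAction.toPerm g) _ _ fun x => rfl
    · rw [Subgroup.index, Nat.card_eq_fintype_card]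
  rw [map_neg, map_smul, h1, smul_sub, smul_smul, inv_mul_cancel₀ hH, one_smul]
  abel

end Cfsg.Agent.H179.SLC
end

-- part: H179/SLC/Elt
section
prune_inst 0x10004000142020000180594110000000000000000000000a0200106094080008043002028300400188080c44809000000100080424000000e000000011a0180000002002040000000001e000000000000000000000000000000000000000000000000000
set_option linter.all false
open scoped Cfsg.Agent.FastGrp

-- part: H179/SLC/Gen
section
/-!
# The modules `V_b` of `SL₂(2ⁿ)` and the semisimple elements (helper179)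

`finrank_eig_ss` : the multiplicities of the eigenvalues of any semisimple element (split or not) on `V_b`.
-/

set_option autoImplicit false
set_option linter.unusedSectionVars false

namespace Cfsg.Agent.H179.SLC

open Matrix Cfsg.Agent.H943.SL2Rel Cfsg.Agent.H943.RepAdd Cfsg.Agent.H943.SL2Mod

section Span

variable {k : Type*} [Field k] [CharP k 2]

theorem lucas2 (b m : ℕ) : ((b.choose m : ℕ) : k) = (((b % 2).choose (m % 2) * (b / 2).choose (m / 2) : ℕ) : k) := by
  rw [CharP.cast_eq_iff_mod_eq k 2]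
  exact Choose.choose_modEq_choose_mod_mul_choose_div_nat

theorem ch00 (b m : ℕ) : (((2 * b).choose (2 * m) : ℕ) : k) = (b.choose m : ℕ) := by
  rw [lucas2, show 2 * b % 2 = 0 by omega, show 2 * m % 2 = 0 by omega, show 2 * b / 2 = b by omega,
    show 2 * m / 2 = m by omega, Nat.choose_self, one_mul]

theorem ch01 (b m : ℕ) : (((2 * b).choose (2 * m + 1) : ℕ) : k) = 0 := by
  rw [lucas2, show 2 * b % 2 = 0 by omega, show (2 * m + 1) % 2 = 1 by omega]
  simp

theorem ch10 (b m : ℕ) : (((2 * b + 1).choose (2 * m) : ℕ) : k) = (b.choose m : ℕ) := by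
  rw [lucas2, show (2 * b + 1) % 2 = 1 by omega, show 2 * m % 2 = 0 by omega, show (2 * b + 1) / 2 = b by omega,
    show 2 * m / 2 = m by omega, Nat.choose_zero_right, one_mul]

theorem ch11 (b m : ℕ) : (((2 * b + 1).choose (2 * m + 1) : ℕ) : k) = (b.choose m : ℕ) := by
  rw [lucas2, show (2 * b + 1) % 2 = 1 by omega, show (2 * m + 1) % 2 = 1 by omega, show (2 * b + 1) / 2 = b by omega,
    show (2 * m + 1) / 2 = m by omega, Nat.choose_self, one_mul]

/-- the monomials in two functions -/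
def Sp {X : Type*} (l₁ l₂ : X → k) (b : ℕ) : Submodule k (X → k) :=
  Submodule.span k ((fun j : ℕ => fun z => l₁ z ^ j * l₂ z ^ (b - j)) '' Bb k b)

theorem sq_mem {X : Type*} {l₁ l₂ : X → k} {b : ℕ} {f : X → k} (hf : f ∈ Sp l₁ l₂ b) : f ^ 2 ∈ Sp l₁ l₂ (2 * b) := by
  induction hf using Submodule.span_induction with
  | mem x hx =>
    obtain ⟨j, hj, rfl⟩ := hx
    refine Submodule.subset_span ⟨2 * j, ⟨by have := hj.1; omega, by rw [ch00]; exact hj.2⟩, ?_⟩
    funext z
    show l₁ z ^ (2 * j) * l₂ z ^ (2 * b - 2 * j) = (l₁ z ^ j * l₂ z ^ (b - j)) ^ 2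
    rw [mul_pow, ← pow_mul, ← pow_mul, show 2 * b - 2 * j = (b - j) * 2 by omega, mul_comm 2 j]
  | zero => rw [zero_pow two_ne_zero]; exact Submodule.zero_mem _
  | add x y _ _ hx hy =>
    have h1 : (x + y) ^ 2 = x ^ 2 + y ^ 2 := by
      funext z
      exact add_pow_char (R := k) (p := 2) (x z) (y z)
    rw [h1]
    exact Submodule.add_mem _ hx hy
  | smul a x _ hx =>
    rw [smul_pow]
    exact Submodule.smul_mem _ _ hx

theorem mul_mem1 {X : Type*} {l₁ l₂ : X → k} {b : ℕ} {f : X → k} (hf : f ∈ Sp l₁ l₂ (2 * b)) :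
    f * l₁ ∈ Sp l₁ l₂ (2 * b + 1) := by
  induction hf using Submodule.span_induction with
  | mem x hx =>
    obtain ⟨j, hj, rfl⟩ := hx
    obtain ⟨i, rfl | rfl⟩ := Nat.even_or_odd' j
    · refine Submodule.subset_span ⟨2 * i + 1, ⟨by have := hj.1; omega, by
        rw [ch11, ← ch00]; exact hj.2⟩, ?_⟩
      funext z
      show l₁ z ^ (2 * i + 1) * l₂ z ^ (2 * b + 1 - (2 * i + 1)) = (l₁ z ^ (2 * i) * l₂ z ^ (2 * b - 2 * i)) * l₁ z
      rw [show 2 * b + 1 - (2 * i + 1) = 2 * b - 2 * i by omega, pow_succ]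
      ring
    · exact absurd (ch01 b i) hj.2
  | zero => rw [zero_mul]; exact Submodule.zero_mem _
  | add x y _ _ hx hy => rw [add_mul]; exact Submodule.add_mem _ hx hy
  | smul a x _ hx => rw [smul_mul_assoc]; exact Submodule.smul_mem _ _ hx

theorem mul_mem2 {X : Type*} {l₁ l₂ : X → k} {b : ℕ} {f : X → k} (hf : f ∈ Sp l₁ l₂ (2 * b)) :
    f * l₂ ∈ Sp l₁ l₂ (2 * b + 1) := by
  induction hf using Submodule.span_induction with
  | mem x hx =>
    obtain ⟨j, hj, rfl⟩ := hx
    obtain ⟨i, rfl | rfl⟩ := Nat.even_or_odd' j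
    · refine Submodule.subset_span ⟨2 * i, ⟨by have := hj.1; omega, by
        rw [ch10, ← ch00]; exact hj.2⟩, ?_⟩
      funext z
      show l₁ z ^ (2 * i) * l₂ z ^ (2 * b + 1 - 2 * i) = (l₁ z ^ (2 * i) * l₂ z ^ (2 * b - 2 * i)) * l₂ z
      have := hj.1
      rw [show 2 * b + 1 - 2 * i = (2 * b - 2 * i) + 1 by omega, pow_succ]
      ring
    · exact absurd (ch01 b i) hj.2
  | zero => rw [zero_mul]; exact Submodule.zero_mem _
  | add x y _ _ hx hy => rw [add_mul]; exact Submodule.add_mem _ hx hy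
  | smul a x _ hx => rw [smul_mul_assoc]; exact Submodule.smul_mem _ _ hx

/-- change of the linear functions -/
theorem mon_mem_Sp {X : Type*} {l₁ l₂ x y : X → k} {a₁ a₂ c₁ c₂ : k} (hx : x = a₁ • l₁ + a₂ • l₂)
    (hy : y = c₁ • l₁ + c₂ • l₂) (b : ℕ) : ∀ m ∈ Bb k b, (fun z => x z ^ m * y z ^ (b - m)) ∈ Sp l₁ l₂ b := by
  induction b using Nat.strong_induction_on with
  | _ b ih =>
    intro m hm
    rcases Nat.eq_zero_or_pos b with rfl | hb0
    · have h0 : m = 0 := Nat.le_zero.1 hm.1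
      subst h0
      refine Submodule.subset_span ⟨0, hm, ?_⟩
      funext z
      show l₁ z ^ 0 * l₂ z ^ (0 - 0) = x z ^ 0 * y z ^ (0 - 0)
      simp
    obtain ⟨b', rfl | rfl⟩ := Nat.even_or_odd' b
    · obtain ⟨m', rfl | rfl⟩ := Nat.even_or_odd' m
      · have h1 := ih b' (by omega) m' ⟨by have := hm.1; omega, by have := hm.2; rwa [ch00] at this⟩
        have h2 := sq_mem h1
        convert h2 using 1
        funext z
        show x z ^ (2 * m') * y z ^ (2 * b' - 2 * m') = (x z ^ m' * y z ^ (b' - m')) ^ 2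
        rw [mul_pow, ← pow_mul, ← pow_mul, show 2 * b' - 2 * m' = (b' - m') * 2 by omega, mul_comm 2 m']
      · exact absurd (ch01 b' m') hm.2
    · obtain ⟨m', rfl | rfl⟩ := Nat.even_or_odd' m
      · have h1 := ih b' (by omega) m' ⟨by have := hm.1; omega, by have := hm.2; rwa [ch10] at this⟩
        have h2 := sq_mem h1
        have h3 := Submodule.add_mem _ (Submodule.smul_mem _ c₁ (mul_mem1 h2)) (Submodule.smul_mem _ c₂ (mul_mem2 h2))
        convert h3 using 1
        funext z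
        have hyz : y z = c₁ * l₁ z + c₂ * l₂ z := by rw [hy]; rfl
        show x z ^ (2 * m') * y z ^ (2 * b' + 1 - 2 * m') = c₁ * ((x z ^ m' * y z ^ (b' - m')) ^ 2 * l₁ z) +
          c₂ * ((x z ^ m' * y z ^ (b' - m')) ^ 2 * l₂ z)
        have := hm.1
        rw [show 2 * b' + 1 - 2 * m' = (b' - m') * 2 + 1 by omega, pow_succ (y z), pow_mul (y z), mul_comm 2 m', pow_mul]
        generalize x z ^ m' = A
        generalize y z ^ (b' - m') = B
        rw [hyz]
        ring
      · have h1 := ih b' (by omega) m' ⟨by have := hm.1; omega, by have := hm.2; rwa [ch11] at this⟩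
        have h2 := sq_mem h1
        have h3 := Submodule.add_mem _ (Submodule.smul_mem _ a₁ (mul_mem1 h2)) (Submodule.smul_mem _ a₂ (mul_mem2 h2))
        convert h3 using 1
        funext z
        have hxz : x z = a₁ * l₁ z + a₂ * l₂ z := by rw [hx]; rfl
        show x z ^ (2 * m' + 1) * y z ^ (2 * b' + 1 - (2 * m' + 1)) = a₁ * ((x z ^ m' * y z ^ (b' - m')) ^ 2 * l₁ z) +
          a₂ * ((x z ^ m' * y z ^ (b' - m')) ^ 2 * l₂ z)
        have := hm.1
        rw [show 2 * b' + 1 - (2 * m' + 1) = (b' - m') * 2 by omega, pow_succ (x z), pow_mul (y z), mul_comm 2 m', pow_mul]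
        generalize x z ^ m' = A
        generalize y z ^ (b' - m') = B
        rw [hxz]
        ring

end Span

variable {k : Type*} [Field k] [CharP k 2] {F : Type*} [Field F] [Fintype F] [DecidableEq F] [CharP F 2] (ι : F →+* k)

/-- the linear function of a vector -/
def lin (v : Fin 2 → k) : F × F → k := fun z => ι z.1 * v 0 + ι z.2 * v 1

/-- `g` is diagonalisable over `k`, with the eigenvalues `ζ`, `ζ⁻¹` -/
def IsSS (g : _root_.Matrix.SpecialLinearGroup (Fin 2) F) (ζ : k) : Prop :=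
  ∃ v₁ v₂ : Fin 2 → k, (g.1.map ι).mulVec v₁ = ζ • v₁ ∧ (g.1.map ι).mulVec v₂ = ζ⁻¹ • v₂ ∧ v₁ 0 * v₂ 1 - v₁ 1 * v₂ 0 ≠ 0

theorem fRep_lin {g : _root_.Matrix.SpecialLinearGroup (Fin 2) F} {v : Fin 2 → k} {ζ : k} (h : (g.1.map ι).mulVec v = ζ • v) :
    fRep k F g (lin ι v) = ζ • lin ι v := by
  have h0 : ι (g.1 0 0) * v 0 + ι (g.1 0 1) * v 1 = ζ * v 0 := by
    have := congrFun h 0
    simpa only [Matrix.mulVec, dotProduct, Fin.sum_univ_two, _root_.Fin.isValue, _root_.Matrix.map_apply, _root_.Pi.smul_apply, _root_.smul_eq_mul] using this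
  have h1 : ι (g.1 1 0) * v 0 + ι (g.1 1 1) * v 1 = ζ * v 1 := by
    have := congrFun h 1
    simpa only [Matrix.mulVec, dotProduct, Fin.sum_univ_two, _root_.Fin.isValue, _root_.Matrix.map_apply, _root_.Pi.smul_apply, _root_.smul_eq_mul] using this
  funext z
  show ι (z.1 * g.1 0 0 + z.2 * g.1 1 0) * v 0 + ι (z.1 * g.1 0 1 + z.2 * g.1 1 1) * v 1 =
    ζ * (ι z.1 * v 0 + ι z.2 * v 1)
  rw [map_add, map_add, map_mul, map_mul, map_mul, map_mul]
  linear_combination ι z.1 * h0 + ι z.2 * h1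

theorem fRep_mono {g : _root_.Matrix.SpecialLinearGroup (Fin 2) F} {l₁ l₂ : F × F → k} {ζ ξ : k} (h1 : fRep k F g l₁ = ζ • l₁)
    (h2 : fRep k F g l₂ = ξ • l₂) (i j : ℕ) :
    fRep k F g (fun z => l₁ z ^ i * l₂ z ^ j) = (ζ ^ i * ξ ^ j) • fun z => l₁ z ^ i * l₂ z ^ j := by
  funext z
  have e1 := congrFun h1 z
  have e2 := congrFun h2 z
  have e1' : l₁ (z.1 * g.1 0 0 + z.2 * g.1 1 0, z.1 * g.1 0 1 + z.2 * g.1 1 1) = ζ * l₁ z := e1
  have e2' : l₂ (z.1 * g.1 0 0 + z.2 * g.1 1 0, z.1 * g.1 0 1 + z.2 * g.1 1 1) = ξ * l₂ z := e2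
  show l₁ (z.1 * g.1 0 0 + z.2 * g.1 1 0, z.1 * g.1 0 1 + z.2 * g.1 1 1) ^ i *
    l₂ (z.1 * g.1 0 0 + z.2 * g.1 1 0, z.1 * g.1 0 1 + z.2 * g.1 1 1) ^ j = (ζ ^ i * ξ ^ j) * (l₁ z ^ i * l₂ z ^ j)
  rw [e1', e2']
  ring

variable [DecidableEq k]

theorem Vb_le_Sp {v₁ v₂ : Fin 2 → k} (hD : v₁ 0 * v₂ 1 - v₁ 1 * v₂ 0 ≠ 0) (b : ℕ) :
    Vb ι b ≤ Sp (lin ι v₁) (lin ι v₂) b := by
  refine (Vb_le ι b).trans (Submodule.span_le.2 ?_)
  rintro _ ⟨m, hm, rfl⟩
  refine mon_mem_Sp (l₁ := lin ι v₁) (l₂ := lin ι v₂) (x := fun z => ι z.1) (y := fun z => ι z.2)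
    (a₁ := v₂ 1 / (v₁ 0 * v₂ 1 - v₁ 1 * v₂ 0)) (a₂ := -v₁ 1 / (v₁ 0 * v₂ 1 - v₁ 1 * v₂ 0))
    (c₁ := -v₂ 0 / (v₁ 0 * v₂ 1 - v₁ 1 * v₂ 0)) (c₂ := v₁ 0 / (v₁ 0 * v₂ 1 - v₁ 1 * v₂ 0)) ?_ ?_ b m hm
  · funext z
    show ι z.1 = v₂ 1 / (v₁ 0 * v₂ 1 - v₁ 1 * v₂ 0) * (ι z.1 * v₁ 0 + ι z.2 * v₁ 1) +
      -v₁ 1 / (v₁ 0 * v₂ 1 - v₁ 1 * v₂ 0) * (ι z.1 * v₂ 0 + ι z.2 * v₂ 1)
    rw [div_mul_eq_mul_div, div_mul_eq_mul_div, ← add_div, eq_div_iff hD]
    ring
  · funext z
    show ι z.2 = -v₂ 0 / (v₁ 0 * v₂ 1 - v₁ 1 * v₂ 0) * (ι z.1 * v₁ 0 + ι z.2 * v₁ 1) +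
      v₁ 0 / (v₁ 0 * v₂ 1 - v₁ 1 * v₂ 0) * (ι z.1 * v₂ 0 + ι z.2 * v₂ 1)
    rw [div_mul_eq_mul_div, div_mul_eq_mul_div, ← add_div, eq_div_iff hD]
    ring

/-- **the multiplicities of the eigenvalues of a semisimple element on `V_b`** -/
theorem finrank_eig_ss (hι : Function.Injective ι) (hs1 : (-1 : k) ^ (Fintype.card F - 1) = 1) {b : ℕ}
    (hb : b ≤ Fintype.card F - 1) {g : _root_.Matrix.SpecialLinearGroup (Fin 2) F} {ζ : k} (hg : IsSS ι g ζ) (ν : k) :
    Module.finrank k (eig (rb ι 2 hs1 hb) g ν) = ((Bf k b).filter fun m => ζ ^ m * ζ⁻¹ ^ (b - m) = ν).card := by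
  obtain ⟨v₁, v₂, h1, h2, hD⟩ := hg
  let w : Bf k b → F × F → k := fun m z => lin ι v₁ z ^ (m : ℕ) * lin ι v₂ z ^ (b - m)
  let f : (Bf k b → k) →ₗ[k] (F × F → k) := Fintype.linearCombination k w
  have hf : ∀ x, f x = ∑ m : Bf k b, x m • w m := fun x => rfl
  have hle : Vb ι b ≤ LinearMap.range f := by
    refine (Vb_le_Sp ι hD b).trans (Submodule.span_le.2 ?_)
    rintro _ ⟨m, hm, rfl⟩
    refine ⟨Pi.single ⟨m, mem_Bf.2 hm⟩ 1, ?_⟩
    rw [hf, Finset.sum_eq_single (⟨m, mem_Bf.2 hm⟩ : Bf k b)]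
    · rw [Pi.single_eq_same, one_smul]
    · intro m' _ hne
      rw [Pi.single_eq_of_ne hne, zero_smul]
    · intro h0
      exact absurd (Finset.mem_univ _) h0
  have hrk : Module.finrank k (LinearMap.range f) ≤ Module.finrank k (Vb ι b) := by
    rw [finrank_Vb ι 2 hι hs1 hb]
    refine (LinearMap.finrank_range_le f).trans ?_
    rw [Module.finrank_fintype_fun_eq_card, Fintype.card_coe]
  have heq : Vb ι b = LinearMap.range f := Submodule.eq_of_le_of_finrank_le hle hrk
  have hinj : Function.Injective f := by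
    rw [← LinearMap.ker_eq_bot, ← Submodule.finrank_eq_zero]
    have h3 := LinearMap.finrank_range_add_finrank_ker f
    rw [← heq, finrank_Vb ι 2 hι hs1 hb, Module.finrank_fintype_fun_eq_card, Fintype.card_coe] at h3
    omega
  let e : (Bf k b → k) ≃ₗ[k] Vb ι b := (LinearEquiv.ofInjective f hinj).trans (LinearEquiv.ofEq _ _ heq.symm)
  have he : ∀ x, ((e x : Vb ι b) : F × F → k) = ∑ m : Bf k b, x m • w m := fun x => rfl
  have h3 := finrank_diag e (rb ι 2 hs1 hb g) (fun m => ζ ^ (m : ℕ) * ζ⁻¹ ^ (b - m)) (by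
    intro x
    apply Subtype.ext
    rw [he]
    show fRep k F g ((e x : Vb ι b) : F × F → k) = _
    rw [he, map_sum]
    refine Finset.sum_congr rfl fun m _ => ?_
    rw [map_smul]
    show x m • fRep k F g (fun z => lin ι v₁ z ^ (m : ℕ) * lin ι v₂ z ^ (b - m)) = _
    rw [fRep_mono (fRep_lin ι h1) (fRep_lin ι h2), smul_smul, mul_comm (x m)]) ν
  unfold eig
  rw [h3, Fintype.card_subtype]
  rw [← Finset.card_map (Function.Embedding.subtype fun m => m ∈ Bf k b)]
  congr 1
  ext m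
  simp only [Finset.mem_map, Finset.mem_filter, Finset.mem_univ, true_and, Function.Embedding.coe_subtype]
  constructor
  · rintro ⟨m', h2, rfl⟩
    exact ⟨m'.2, h2⟩
  · rintro ⟨h2, h3⟩
    exact ⟨⟨m, h2⟩, h3, rfl⟩

end Cfsg.Agent.H179.SLC
end

-- part: H179/SLC/Elt
section
/-!
# Semisimple elements of `SL₂(2ⁿ)` and composition multiplicities (helper179)

* `isSS_h`, `exists_isSS` : `h a` and elements of the non split torus;
* `exists_mult` : the composition multiplicities of a module and the eigenvalue multiplicities of all semisimple elements.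
-/

set_option autoImplicit false
set_option linter.unusedSectionVars false

namespace Cfsg.Agent.H179.SLC

open Matrix Cfsg.Agent.H943.SL2Rel Cfsg.Agent.H943.RepAdd Cfsg.Agent.H943.SL2Mod

variable {k : Type*} [Field k] {F : Type*} [Field F] [Fintype F] [DecidableEq F] (ι : F →+* k)

theorem isSS_h (a : Fˣ) : IsSS ι (h a) (ι a) := by
  refine ⟨![1, 0], ![0, 1], ?_, ?_, by simp⟩
  · funext i
    (revert i; simp only [h, Matrix.mulVec, dotProduct, Fin.sum_univ_two, _root_.Fin.forall_fin_succ, _root_.Matrix.map_apply, _root_.Matrix.of_apply, _root_.Matrix.cons_val', _root_.Matrix.cons_val_fin_one, Fin.isValue, _root_.Matrix.cons_val_zero, _root_.mul_one, _root_.Matrix.cons_val_one, _root_.MulZeroClass.mul_zero, _root_.add_zero, _root_.Pi.smul_apply, _root_.smul_eq_mul, _root_.Matrix.cons_val_succ, _root_.map_zero, _root_.implies_true, _root_.and_self])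
  · funext i
    (revert i; simp only [h, Matrix.mulVec, dotProduct, Fin.sum_univ_two, _root_.Fin.forall_fin_succ, _root_.Matrix.map_apply, _root_.Matrix.of_apply, _root_.Matrix.cons_val', _root_.Matrix.cons_val_fin_one, Fin.isValue, _root_.Matrix.cons_val_zero, _root_.MulZeroClass.mul_zero, _root_.Matrix.cons_val_one, _root_.mul_one, _root_.zero_add, _root_.Pi.smul_apply, _root_.smul_eq_mul, _root_.map_zero, _root_.Matrix.cons_val_succ, _root_.map_inv₀, _root_.implies_true, _root_.and_self])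

theorem IsSS.pow {g : _root_.Matrix.SpecialLinearGroup (Fin 2) F} {ζ : k} (hg : IsSS ι g ζ) (n : ℕ) : IsSS ι (g ^ n) (ζ ^ n) := by
  obtain ⟨v₁, v₂, h1, h2, hD⟩ := hg
  have key : ∀ (v : Fin 2 → k) (ξ : k), (g.1.map ι).mulVec v = ξ • v →
      ((g ^ n).1.map ι).mulVec v = ξ ^ n • v := by
    intro v ξ hv
    have h3 : (g ^ n).1.map ι = (g.1.map ι) ^ n := by
      have h4 : (g ^ n).1 = g.1 ^ n := Matrix.SpecialLinearGroup.coe_pow g n
      rw [h4]
      exact map_pow (RingHom.mapMatrix ι) g.1 n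
    rw [h3]
    clear h3
    induction n with
    | zero => simp
    | succ n ih => rw [pow_succ, ← Matrix.mulVec_mulVec, hv, Matrix.mulVec_smul, ih, smul_smul, pow_succ, mul_comm]
  exact ⟨v₁, v₂, key _ _ h1, by rw [key _ _ h2, inv_pow], hD⟩

/-- a matrix with two independent fixed vectors -/
theorem IsSS.eq_one (hι : Function.Injective ι) {g : _root_.Matrix.SpecialLinearGroup (Fin 2) F} (hg : IsSS ι g (1 : k)) : g = 1 := by
  obtain ⟨v₁, v₂, h1, h2, hD⟩ := hg
  rw [inv_one] at h2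
  have e10 : ι (g.1 0 0) * v₁ 0 + ι (g.1 0 1) * v₁ 1 = 1 * v₁ 0 := by
    have := congrFun h1 0
    simpa only [Matrix.mulVec, dotProduct, Fin.sum_univ_two, _root_.Fin.isValue, _root_.one_mul, _root_.Matrix.map_apply, _root_.Pi.smul_apply, _root_.smul_eq_mul] using this
  have e11 : ι (g.1 1 0) * v₁ 0 + ι (g.1 1 1) * v₁ 1 = 1 * v₁ 1 := by
    have := congrFun h1 1
    simpa only [Matrix.mulVec, dotProduct, Fin.sum_univ_two, _root_.Fin.isValue, _root_.one_mul, _root_.Matrix.map_apply, _root_.Pi.smul_apply, _root_.smul_eq_mul] using this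
  have e20 : ι (g.1 0 0) * v₂ 0 + ι (g.1 0 1) * v₂ 1 = 1 * v₂ 0 := by
    have := congrFun h2 0
    simpa only [Matrix.mulVec, dotProduct, Fin.sum_univ_two, _root_.Fin.isValue, _root_.one_mul, _root_.Matrix.map_apply, _root_.Pi.smul_apply, _root_.smul_eq_mul] using this
  have e21 : ι (g.1 1 0) * v₂ 0 + ι (g.1 1 1) * v₂ 1 = 1 * v₂ 1 := by
    have := congrFun h2 1
    simpa only [Matrix.mulVec, dotProduct, Fin.sum_univ_two, _root_.Fin.isValue, _root_.one_mul, _root_.Matrix.map_apply, _root_.Pi.smul_apply, _root_.smul_eq_mul] using this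
  have m00 : ι (g.1 0 0) = 1 := by
    have : (ι (g.1 0 0) - 1) * (v₁ 0 * v₂ 1 - v₁ 1 * v₂ 0) = 0 := by linear_combination v₂ 1 * e10 - v₁ 1 * e20
    exact sub_eq_zero.1 ((mul_eq_zero.1 this).resolve_right hD)
  have m01 : ι (g.1 0 1) = 0 := by
    have : ι (g.1 0 1) * (v₁ 0 * v₂ 1 - v₁ 1 * v₂ 0) = 0 := by linear_combination v₁ 0 * e20 - v₂ 0 * e10
    exact (mul_eq_zero.1 this).resolve_right hD
  have m10 : ι (g.1 1 0) = 0 := by
    have : ι (g.1 1 0) * (v₁ 0 * v₂ 1 - v₁ 1 * v₂ 0) = 0 := by linear_combination v₂ 1 * e11 - v₁ 1 * e21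
    exact (mul_eq_zero.1 this).resolve_right hD
  have m11 : ι (g.1 1 1) = 1 := by
    have : (ι (g.1 1 1) - 1) * (v₁ 0 * v₂ 1 - v₁ 1 * v₂ 0) = 0 := by linear_combination v₁ 0 * e21 - v₂ 0 * e11
    exact sub_eq_zero.1 ((mul_eq_zero.1 this).resolve_right hD)
  apply Matrix.SpecialLinearGroup.ext
  intro i j
  fin_cases i <;> fin_cases j
  · exact hι (by show ι (g.1 0 0) = ι 1; rw [m00, map_one])
  · exact hι (by show ι (g.1 0 1) = ι 0; rw [m01, map_zero])
  · exact hι (by show ι (g.1 1 0) = ι 0; rw [m10, map_zero])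
  · exact hι (by show ι (g.1 1 1) = ι 1; rw [m11, map_one])

theorem IsSS.ne_zero {g : _root_.Matrix.SpecialLinearGroup (Fin 2) F} {ζ : k} (hg : IsSS ι g ζ) : ζ ≠ 0 := by
  rintro rfl
  obtain ⟨v₁, v₂, h1, h2, hD⟩ := hg
  have h3 : (g.1.map ι) * (g⁻¹.1.map ι) = 1 := by
    have h4 : g.1 * (g⁻¹).1 = 1 := by
      have h5 : (g * g⁻¹).1 = g.1 * (g⁻¹).1 := Matrix.SpecialLinearGroup.coe_mul g g⁻¹
      rw [← h5, mul_inv_cancel]
      rfl
    have h5 := congrArg (RingHom.mapMatrix ι) h4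
    rw [map_mul, map_one] at h5
    exact h5
  have h4 := mul_eq_one_comm.1 h3
  have h5 : v₁ = 0 := by
    have h6 := congrArg (fun M : Matrix (Fin 2) (Fin 2) k => M.mulVec v₁) h4
    simp only [Matrix.one_mulVec] at h6
    rw [← h6, ← Matrix.mulVec_mulVec, h1, zero_smul, Matrix.mulVec_zero]
  apply hD
  rw [h5]
  simp

theorem isSS_of_trace {g : _root_.Matrix.SpecialLinearGroup (Fin 2) F} {ζ : k} (hζ : ζ ≠ 0) (h : ι (g.1 0 0 + g.1 1 1) = ζ + ζ⁻¹)
    (hne : ζ ≠ ζ⁻¹) : IsSS ι g ζ := by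
  have hdet : ι (g.1 0 0) * ι (g.1 1 1) - ι (g.1 0 1) * ι (g.1 1 0) = 1 := by
    have h1 := g.2
    rw [Matrix.det_fin_two] at h1
    rw [← map_mul, ← map_mul, ← map_sub, h1, map_one]
  rw [map_add] at h
  -- eigenvectors
  have key : ∀ ξ : k, ξ ≠ 0 → ι (g.1 0 0) + ι (g.1 1 1) = ξ + ξ⁻¹ →
      ∃ v : Fin 2 → k, v ≠ 0 ∧ (g.1.map ι).mulVec v = ξ • v := by
    intro ξ hξ ht
    have h1 : (g.1.map ι - ξ • (1 : Matrix (Fin 2) (Fin 2) k)).det = 0 := by
      rw [Matrix.det_fin_two]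
      simp only [Matrix.sub_apply, Matrix.smul_apply, Matrix.one_apply, Matrix.map_apply, smul_eq_mul]
      simp only [if_true, Fin.zero_eq_one_iff, OfNat.ofNat_ne_one, if_false, mul_one, mul_zero, sub_zero, Fin.one_eq_zero_iff]
      have h2 : ξ * ξ⁻¹ = 1 := mul_inv_cancel₀ hξ
      linear_combination hdet - ξ * ht - h2
    obtain ⟨v, hv, hv2⟩ := Matrix.exists_mulVec_eq_zero_iff.2 h1
    refine ⟨v, hv, ?_⟩
    rw [Matrix.sub_mulVec, Matrix.smul_mulVec, Matrix.one_mulVec, sub_eq_zero] at hv2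
    exact hv2
  obtain ⟨v₁, n1, h1⟩ := key ζ hζ h
  obtain ⟨v₂, n2, h2⟩ := key ζ⁻¹ (inv_ne_zero hζ) (by rw [h, inv_inv, add_comm])
  refine ⟨v₁, v₂, h1, h2, fun hD => ?_⟩
  -- dependent vectors
  obtain ⟨c, hc⟩ : ∃ c : k, v₂ = c • v₁ := by
    by_cases h0 : v₁ 0 = 0
    · have h10 : v₁ 1 ≠ 0 := by
        intro h10
        apply n1
        funext i
        fin_cases i
        · exact h0
        · exact h10
      refine ⟨v₂ 1 / v₁ 1, ?_⟩
      rw [h0, zero_mul, zero_sub, neg_eq_zero] at hD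
      have h20 : v₂ 0 = 0 := (mul_eq_zero.1 hD).resolve_left h10
      funext i
      fin_cases i
      · show v₂ 0 = v₂ 1 / v₁ 1 * v₁ 0
        rw [h20, h0, mul_zero]
      · show v₂ 1 = v₂ 1 / v₁ 1 * v₁ 1
        rw [div_mul_cancel₀ _ h10]
    · refine ⟨v₂ 0 / v₁ 0, ?_⟩
      funext i
      fin_cases i
      · show v₂ 0 = v₂ 0 / v₁ 0 * v₁ 0
        rw [div_mul_cancel₀ _ h0]
      · show v₂ 1 = v₂ 0 / v₁ 0 * v₁ 1
        rw [div_mul_eq_mul_div, eq_div_iff h0]
        linear_combination hD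
  have h3 : ζ • v₂ = ζ⁻¹ • v₂ := by
    rw [← h2, hc, Matrix.mulVec_smul, h1, smul_comm]
  have h4 : (ζ - ζ⁻¹) • v₂ = 0 := by rw [sub_smul, h3, sub_self]
  exact n2 ((smul_eq_zero.1 h4).resolve_left (sub_ne_zero.2 hne))

/-- the elements of `k` fixed by the `q`-th power map -/
theorem mem_range_of_pow (hι : Function.Injective ι) {x : k} (hx : x ^ Fintype.card F = x) : ∃ t : F, ι t = x := by
  classical
  by_contra hcon
  push Not at hcon
  have hq : 1 < Fintype.card F := Fintype.one_lt_card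
  let P : Polynomial k := Polynomial.X ^ Fintype.card F - Polynomial.X
  have hP : P ≠ 0 := FiniteField.X_pow_card_sub_X_ne_zero k hq
  have hdeg : P.natDegree = Fintype.card F := FiniteField.X_pow_card_sub_X_natDegree_eq k hq
  have hsub : insert x (Finset.univ.image ι) ⊆ P.roots.toFinset := by
    intro y hy
    rw [Multiset.mem_toFinset, Polynomial.mem_roots hP, Polynomial.IsRoot.def]
    show (Polynomial.X ^ Fintype.card F - Polynomial.X : Polynomial k).eval y = 0
    rw [Polynomial.eval_sub, Polynomial.eval_pow, Polynomial.eval_X, sub_eq_zero]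
    rcases Finset.mem_insert.1 hy with rfl | hy
    · exact hx
    · obtain ⟨t, -, rfl⟩ := Finset.mem_image.1 hy
      rw [← map_pow, FiniteField.pow_card]
  have h1 := Finset.card_le_card hsub
  rw [Finset.card_insert_of_notMem (by
    intro h
    obtain ⟨t, -, ht⟩ := Finset.mem_image.1 h
    exact hcon t ht), Finset.card_image_of_injective _ hι, Finset.card_univ] at h1
  have h2 := (Multiset.toFinset_card_le P.roots).trans (Polynomial.card_roots' P)
  omega

/-- elements of the non split torus -/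
theorem exists_isSS (hι : Function.Injective ι) (p : ℕ) [Fact p.Prime] [CharP k p] [CharP F p] {ζ : k}
    (hζ : ζ ^ (Fintype.card F + 1) = 1) (hne : ζ ≠ ζ⁻¹) :
    ∃ g : _root_.Matrix.SpecialLinearGroup (Fin 2) F, IsSS ι g ζ := by
  have h0 : ζ ≠ 0 := by
    rintro rfl
    rw [zero_pow (Nat.succ_ne_zero _)] at hζ
    exact zero_ne_one hζ
  have hq : ζ ^ Fintype.card F = ζ⁻¹ := by
    rw [pow_succ] at hζ
    exact eq_inv_of_mul_eq_one_left hζ
  obtain ⟨t, ht⟩ := mem_range_of_pow ι hι (x := ζ + ζ⁻¹) (by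
    obtain ⟨n, -, hn⟩ := FiniteField.card F p
    have h1 : (ζ + ζ⁻¹) ^ Fintype.card F = ζ ^ Fintype.card F + ζ⁻¹ ^ Fintype.card F := by
      rw [hn]
      exact add_pow_char_pow _ _ _ _
    rw [h1, inv_pow, hq, inv_inv, add_comm])
  refine ⟨⟨!![0, -1; 1, t], by simp [Matrix.det_fin_two]⟩, isSS_of_trace ι h0 ?_ hne⟩
  show ι (0 + t) = _
  rw [zero_add, ht]

end Cfsg.Agent.H179.SLC
end

private theorem dce_4478d0f57d14 : _root_.True := by
  try have : _root_.True := by simp only [_root_.Cfsg.Agent.H943.SL2Rel.h.eq_1]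
  exact _root_.True.intro
end

-- part: H434/E8L/Aut81
section
prune_inst 0x50004400142000000000584910000404c0005900003000042000244020080620100062024801000800a20040008000000000180424000000e000000011800800000000030000008000016000000000000000000000000000000000000000004000000000
set_option linter.all false
open scoped Cfsg.Agent.FastGrp

/-!
# Groups with a normal subgroup `PSL₂(81)` (helper434)

`G` a group, `φ : SL₂(F) →* G` with kernel the centre, `card F = 81`, `C_G(φ.range) = 1`, `H` normalising `φ.range`: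
`H / S` is abelian of exponent dividing 4, `C_H(φ (h λ))` is cyclic of order dividing 80.
-/

set_option autoImplicit false
set_option linter.unusedSectionVars false

namespace Cfsg.Agent.H434.E8L

open Matrix
open Cfsg.Agent.ClassicalGeometry.AutPSL.Auto Cfsg.Agent.ClassicalGeometry.AutPSL.Main
open Cfsg.Agent.ClassicalGeometry.AutPSL.Root
open Cfsg.Agent.H943.SL2Rel (h u w)

section Field

variable {F : Type*} [Field F] [Fintype F]

theorem charP_three (hcard : Fintype.card F = 81) : CharP F 3 := by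
  obtain ⟨⟨m, hm⟩, hp', hc⟩ := FiniteField.card F (ringChar F)
  rw [hcard] at hc
  have h1 : ringChar F ∣ 3 ^ 4 := by
    rw [show (3 : ℕ) ^ 4 = 81 by norm_num, hc]
    exact dvd_pow_self _ (by simpa using hm.ne')
  have h2 := (Nat.prime_dvd_prime_iff_eq hp' Nat.prime_three).1 (hp'.dvd_of_dvd_pow h1)
  exact h2 ▸ ringChar.charP F

/-- the automorphisms of the field of order 81 -/
theorem aut_pow (hcard : Fintype.card F = 81) (σ : F ≃+* F) : ∃ i < 4, ∀ x, σ x = x ^ 3 ^ i := by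
  have := charP_three hcard
  have h3 : Fact (Nat.Prime 3) := ⟨Nat.prime_three⟩
  let _ : Algebra (ZMod 3) F := ZMod.algebra F 3
  let σ' : F →ₐ[ZMod 3] F :=
    { (σ : F →+* F) with
      commutes' := fun a => RingHom.congr_fun
        (Subsingleton.elim ((σ : F →+* F).comp (algebraMap (ZMod 3) F)) (algebraMap (ZMod 3) F)) a }
  obtain ⟨n, hn⟩ := (FiniteField.bijective_frobeniusAlgHom_pow (ZMod 3) F).2 σ'
  have hr : Module.finrank (ZMod 3) F = 4 := by
    have h1 : Fintype.card F = 3 ^ Module.finrank (ZMod 3) F := by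
      rw [Module.card_eq_pow_finrank (K := ZMod 3) (V := F), ZMod.card]
    rw [hcard] at h1
    have h2 : 3 ^ Module.finrank (ZMod 3) F = 3 ^ 4 := by rw [← h1]; norm_num
    exact Nat.pow_right_injective (by norm_num : 2 ≤ 3) h2
  refine ⟨n.1, by rw [← hr]; exact n.2, fun x => ?_⟩
  have h1 : ∀ (k : ℕ) (x : F), (FiniteField.frobeniusAlgHom (ZMod 3) F ^ k) x = x ^ 3 ^ k := by
    intro k
    induction k with
    | zero => intro x; simp
    | succ k ih =>
      intro x
      rw [pow_succ, AlgHom.mul_apply, ih, FiniteField.coe_frobeniusAlgHom, ZMod.card, ← pow_mul, ← pow_succ']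
  have h2 : σ' x = x ^ 3 ^ n.1 := by rw [← hn]; exact h1 n.1 x
  exact h2

theorem aut_comm (hcard : Fintype.card F = 81) (σ τ : F ≃+* F) : σ * τ = τ * σ := by
  obtain ⟨i, -, hi⟩ := aut_pow hcard σ
  obtain ⟨j, -, hj⟩ := aut_pow hcard τ
  apply RingEquiv.ext
  intro x
  show σ (τ x) = τ (σ x)
  rw [hi, hj, hi, hj, ← pow_mul, ← pow_mul, mul_comm]

theorem aut_four (hcard : Fintype.card F = 81) (σ : F ≃+* F) : σ ^ 4 = 1 := by
  obtain ⟨i, hi4, hi⟩ := aut_pow hcard σ
  apply RingEquiv.ext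
  intro x
  have h81 : ∀ x : F, x ^ 81 = x := fun x => by rw [← hcard]; exact FiniteField.pow_card x
  have h1 : (σ ^ 4) x = (((x ^ 3 ^ i) ^ 3 ^ i) ^ 3 ^ i) ^ 3 ^ i := by
    show σ (σ (σ (σ x))) = _
    rw [hi, hi, hi, hi]
  rw [h1, ← pow_mul, ← pow_mul, ← pow_mul]
  show _ = x
  interval_cases i
  · simp
  · exact h81 x
  · calc x ^ (3 ^ 2 * 3 ^ 2 * 3 ^ 2 * 3 ^ 2) = (x ^ 81) ^ 81 := by rw [← pow_mul]; norm_num
      _ = x := by rw [h81, h81]
  · calc x ^ (3 ^ 3 * 3 ^ 3 * 3 ^ 3 * 3 ^ 3) = ((x ^ 81) ^ 81) ^ 81 := by rw [← pow_mul, ← pow_mul]; norm_num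
      _ = x := by rw [h81, h81, h81]

/-- `d σ(d)` is a square -/
theorem sq_mul (hcard : Fintype.card F = 81) (σ : F ≃+* F) (d : F) : ∃ s, d * σ d = s ^ 2 := by
  obtain ⟨i, -, hi⟩ := aut_pow hcard σ
  have h1 : Odd (3 ^ i) := Odd.pow (by decide)
  obtain ⟨k, hk⟩ := h1
  refine ⟨d ^ (k + 1), ?_⟩
  rw [hi, hk, ← pow_mul, ← pow_succ']
  congr 1
  ring

end Field

section

variable {F : Type*} [Field F]

/-- matrices whose determinant is a square act as inner automorphisms -/
theorem cj_inner {C : GL (Fin 2) F} {s : F} (hs : (C : Matrix (Fin 2) (Fin 2) F).det = s ^ 2) :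
    ∃ D : _root_.Matrix.SpecialLinearGroup (Fin 2) F, ∀ x : _root_.Matrix.SpecialLinearGroup (Fin 2) F, cj C x = D * x * D⁻¹ := by
  have hdet : (C : Matrix (Fin 2) (Fin 2) F).det ≠ 0 := by
    have := (Matrix.isUnits_det_units C)
    exact this.ne_zero
  have hs0 : s ≠ 0 := by
    rintro rfl
    apply hdet
    rw [hs]
    ring
  let D : _root_.Matrix.SpecialLinearGroup (Fin 2) F := ⟨s⁻¹ • (C : Matrix (Fin 2) (Fin 2) F), by
    rw [Matrix.det_smul, hs, Fintype.card_fin]
    field_simp⟩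
  refine ⟨D, fun x => ?_⟩
  rw [eq_mul_inv_iff_mul_eq]
  apply Subtype.ext
  rw [Matrix.SpecialLinearGroup.coe_mul, Matrix.SpecialLinearGroup.coe_mul, coe_cj]
  show (C : Matrix (Fin 2) (Fin 2) F) * (x : Matrix (Fin 2) (Fin 2) F) * ((C⁻¹ : GL (Fin 2) F) : Matrix (Fin 2) (Fin 2) F) *
    (s⁻¹ • (C : Matrix (Fin 2) (Fin 2) F)) = (s⁻¹ • (C : Matrix (Fin 2) (Fin 2) F)) * (x : Matrix (Fin 2) (Fin 2) F)
  rw [Matrix.mul_smul, Matrix.smul_mul, Matrix.mul_assoc _ ((C⁻¹ : GL (Fin 2) F) : Matrix (Fin 2) (Fin 2) F), ← Units.val_mul,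
    inv_mul_cancel, Units.val_one, Matrix.mul_one]

/-- the field automorphism on `GL` -/
noncomputable def gm (σ : F ≃+* F) : GL (Fin 2) F →* GL (Fin 2) F := Matrix.GeneralLinearGroup.map (σ : F →+* F)

theorem fld_cj (σ : F ≃+* F) (B : GL (Fin 2) F) :
    fld σ * cj B = (cj (gm σ B) * fld σ : MulAut (_root_.Matrix.SpecialLinearGroup (Fin 2) F)) := by
  apply MulEquiv.ext
  intro x
  apply Subtype.ext
  show ((B : Matrix (Fin 2) (Fin 2) F) * (x : Matrix (Fin 2) (Fin 2) F) * ((B⁻¹ : GL (Fin 2) F) : Matrix (Fin 2) (Fin 2) F)).map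
      (σ : F →+* F) = (gm σ B : Matrix (Fin 2) (Fin 2) F) * (x : Matrix (Fin 2) (Fin 2) F).map (σ : F →+* F) *
      (((gm σ B)⁻¹ : GL (Fin 2) F) : Matrix (Fin 2) (Fin 2) F)
  rw [Matrix.map_mul, Matrix.map_mul, ← map_inv]
  rfl

theorem det_gm (σ : F ≃+* F) (B : GL (Fin 2) F) :
    (gm σ B : Matrix (Fin 2) (Fin 2) F).det = σ (B : Matrix (Fin 2) (Fin 2) F).det := by
  show ((B : Matrix (Fin 2) (Fin 2) F).map (σ : F →+* F)).det = _
  rw [← RingHom.mapMatrix_apply, ← RingHom.map_det]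
  rfl

end

section Grp

variable {F : Type*} [Field F] [Fintype F] {G : Type*} [Group G] {φ : _root_.Matrix.SpecialLinearGroup (Fin 2) F →* G}

/-- `g` induces the automorphism `α` -/
def Ind (φ : _root_.Matrix.SpecialLinearGroup (Fin 2) F →* G) (g : G) (α : MulAut (_root_.Matrix.SpecialLinearGroup (Fin 2) F)) : Prop :=
  ∀ x, g * φ x * g⁻¹ = φ (α x)

theorem Ind.mul {g g' : G} {α β : MulAut (_root_.Matrix.SpecialLinearGroup (Fin 2) F)} (h1 : Ind φ g α) (h2 : Ind φ g' β) :
    Ind φ (g * g') (α * β) := by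
  intro x
  rw [MulAut.mul_apply, ← h1, ← h2]
  group

theorem Ind.inv {g : G} {α : MulAut (_root_.Matrix.SpecialLinearGroup (Fin 2) F)} (h1 : Ind φ g α) : Ind φ g⁻¹ α⁻¹ := by
  intro x
  have := h1 (α⁻¹ x)
  rw [MulAut.apply_inv_self] at this
  rw [← this]
  group

theorem Ind.mem (hcent : ∀ g : G, (∀ s ∈ φ.range, g * s = s * g) → g = 1) {g : G}
    {α : MulAut (_root_.Matrix.SpecialLinearGroup (Fin 2) F)} (h1 : Ind φ g α) {D : _root_.Matrix.SpecialLinearGroup (Fin 2) F}
    (hD : ∀ x, α x = D * x * D⁻¹) : g = φ D := by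
  have h2 : (φ D)⁻¹ * g = 1 := by
    apply hcent
    rintro _ ⟨x, rfl⟩
    have h3 := h1 x
    rw [hD, map_mul, map_mul, map_inv] at h3
    calc (φ D)⁻¹ * g * φ x = (φ D)⁻¹ * (g * φ x * g⁻¹) * g := by group
      _ = (φ D)⁻¹ * (φ D * φ x * (φ D)⁻¹) * g := by rw [h3]
      _ = φ x * ((φ D)⁻¹ * g) := by group
  exact (inv_mul_eq_one.1 h2).symm

/-- elements normalising the image -/
theorem exists_ind (hcard : Fintype.card F = 81)
    (hker : ∀ g, φ g = 1 ↔ g ∈ Subgroup.center (_root_.Matrix.SpecialLinearGroup (Fin 2) F)) {g : G}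
    (hg : ∀ s ∈ φ.range, g * s * g⁻¹ ∈ φ.range) (hg' : ∀ s ∈ φ.range, g⁻¹ * s * g ∈ φ.range) :
    ∃ (A : GL (Fin 2) F) (σ : F ≃+* F), Ind φ g (cj A * fld σ) := by
  have hk : Subgroup.center (_root_.Matrix.SpecialLinearGroup (Fin 2) F) = φ.ker := by
    ext x
    rw [MonoidHom.mem_ker, hker]
  let e : ProjectiveSpecialLinearGroup (Fin 2) F ≃* φ.range :=
    (QuotientGroup.quotientMulEquivOfEq hk).trans (QuotientGroup.quotientKerEquivRange φ)
  have he : ∀ x : _root_.Matrix.SpecialLinearGroup (Fin 2) F, ((e (pr x) : φ.range) : G) = φ x := fun x => rfl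
  let c : MulAut φ.range :=
    { toFun := fun s => ⟨g * s * g⁻¹, hg s s.2⟩
      invFun := fun s => ⟨g⁻¹ * s * g, hg' s s.2⟩
      left_inv := fun s => Subtype.ext (by show g⁻¹ * (g * s * g⁻¹) * g = s; group)
      right_inv := fun s => Subtype.ext (by show g * (g⁻¹ * s * g) * g⁻¹ = s; group)
      map_mul' := fun s t => Subtype.ext (by
        show g * (s * t) * g⁻¹ = g * s * g⁻¹ * (g * t * g⁻¹)
        group) }
  have h3 : Fact (Nat.Prime 3) := ⟨Nat.prime_three⟩
  have := charP_three hcard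
  obtain ⟨A, σ, hA⟩ := surj_two 3 ((MulAut.congr e).symm c)
  refine ⟨A, σ, fun x => ?_⟩
  have h4 : ((MulAut.congr e).symm c) (pr x) = pr ((cj A * fld σ : MulAut (_root_.Matrix.SpecialLinearGroup (Fin 2) F)) x) := by
    rw [hA, lift_pr]
  have h5 : e (((MulAut.congr e).symm c) (pr x)) = c (e (pr x)) := by
    show e (e.symm (c (e (pr x)))) = _
    rw [MulEquiv.apply_symm_apply]
  rw [h4] at h5
  have h6 := congrArg Subtype.val h5
  rw [he] at h6
  rw [h6, ← he x]
  rfl

theorem mul_eq (σ τ : F ≃+* F) (A B : GL (Fin 2) F) :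
    (cj A * fld σ * (cj B * fld τ) : MulAut (_root_.Matrix.SpecialLinearGroup (Fin 2) F)) = cj (A * gm σ B) * fld (σ * τ) := by
  calc (cj A * fld σ * (cj B * fld τ) : MulAut (_root_.Matrix.SpecialLinearGroup (Fin 2) F)) = cj A * (fld σ * cj B) * fld τ := by group
    _ = cj A * (cj (gm σ B) * fld σ) * fld τ := by rw [fld_cj]
    _ = cj (A * gm σ B) * fld (σ * τ) := by rw [map_mul, map_mul]; group

variable (hcard : Fintype.card F = 81) (hker : ∀ g, φ g = 1 ↔ g ∈ Subgroup.center (_root_.Matrix.SpecialLinearGroup (Fin 2) F))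
  (hcent : ∀ g : G, (∀ s ∈ φ.range, g * s = s * g) → g = 1)

include hcard hker hcent

theorem comm81 {a b : G} (ha : ∀ s ∈ φ.range, a * s * a⁻¹ ∈ φ.range) (ha' : ∀ s ∈ φ.range, a⁻¹ * s * a ∈ φ.range)
    (hb : ∀ s ∈ φ.range, b * s * b⁻¹ ∈ φ.range) (hb' : ∀ s ∈ φ.range, b⁻¹ * s * b ∈ φ.range) :
    a * b * a⁻¹ * b⁻¹ ∈ φ.range := by
  obtain ⟨A, σ, hA⟩ := exists_ind hcard hker ha ha'
  obtain ⟨B, τ, hB⟩ := exists_ind hcard hker hb hb'
  have h1 := ((hA.mul hB).mul (hA.inv)).mul hB.inv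
  set X := A * gm σ B with hX
  set Y := B * gm τ A with hY
  have h2 : (cj A * fld σ * (cj B * fld τ) * (cj A * fld σ)⁻¹ * (cj B * fld τ)⁻¹ :
      MulAut (_root_.Matrix.SpecialLinearGroup (Fin 2) F)) = cj (X * Y⁻¹) := by
    calc (cj A * fld σ * (cj B * fld τ) * (cj A * fld σ)⁻¹ * (cj B * fld τ)⁻¹ :
      MulAut (_root_.Matrix.SpecialLinearGroup (Fin 2) F)) = cj A * fld σ * (cj B * fld τ) * (cj B * fld τ * (cj A * fld σ))⁻¹ := by group
      _ = cj X * fld (σ * τ) * (cj Y * fld (τ * σ))⁻¹ := by rw [mul_eq, mul_eq]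
      _ = cj (X * Y⁻¹) := by
        rw [aut_comm hcard τ σ, map_mul cj X, map_inv cj Y]
        group
  rw [h2] at h1
  have hdetX : (X : Matrix (Fin 2) (Fin 2) F).det = (A : Matrix (Fin 2) (Fin 2) F).det * σ (B : Matrix (Fin 2) (Fin 2) F).det := by
    rw [hX, Units.val_mul, Matrix.det_mul, det_gm]
  have hdetY : (Y : Matrix (Fin 2) (Fin 2) F).det = (B : Matrix (Fin 2) (Fin 2) F).det * τ (A : Matrix (Fin 2) (Fin 2) F).det := by
    rw [hY, Units.val_mul, Matrix.det_mul, det_gm]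
  obtain ⟨s, hs⟩ := sq_mul hcard τ (A : Matrix (Fin 2) (Fin 2) F).det
  obtain ⟨t, ht⟩ := sq_mul hcard σ (B : Matrix (Fin 2) (Fin 2) F).det
  have hY0 : (Y : Matrix (Fin 2) (Fin 2) F).det ≠ 0 := (Matrix.isUnits_det_units Y).ne_zero
  have hdet : ((X * Y⁻¹ : GL (Fin 2) F) : Matrix (Fin 2) (Fin 2) F).det =
      (s * t / (Y : Matrix (Fin 2) (Fin 2) F).det) ^ 2 := by
    have h3 : ((X * Y⁻¹ : GL (Fin 2) F) : Matrix (Fin 2) (Fin 2) F).det * (Y : Matrix (Fin 2) (Fin 2) F).det =
        (X : Matrix (Fin 2) (Fin 2) F).det := by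
      rw [← Matrix.det_mul, ← Units.val_mul, inv_mul_cancel_right]
    rw [div_pow, eq_div_iff (pow_ne_zero 2 hY0), mul_pow, ← hs, ← ht, pow_two, ← mul_assoc, h3, hdetX, hdetY]
    ring
  obtain ⟨D, hD⟩ := cj_inner hdet
  exact ⟨D, (h1.mem hcent hD).symm⟩

theorem four81 {a : G} (ha : ∀ s ∈ φ.range, a * s * a⁻¹ ∈ φ.range) (ha' : ∀ s ∈ φ.range, a⁻¹ * s * a ∈ φ.range) :
    a ^ 4 ∈ φ.range := by
  obtain ⟨A, σ, hA⟩ := exists_ind hcard hker ha ha'
  have h0 := (hA.mul hA).mul (hA.mul hA)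
  set X := A * gm σ A with hX
  have h2 : (cj A * fld σ * (cj A * fld σ) * (cj A * fld σ * (cj A * fld σ)) :
      MulAut (_root_.Matrix.SpecialLinearGroup (Fin 2) F)) = cj (X * gm (σ * σ) X) := by
    rw [mul_eq, ← hX, mul_eq]
    have h3 : σ * σ * (σ * σ) = 1 := by
      have h4 := aut_four hcard σ
      rw [pow_succ, pow_succ, pow_succ, pow_one] at h4
      rw [← mul_assoc]
      exact h4
    rw [h3, map_one, mul_one]
  rw [h2] at h0
  have hdet : ((X * gm (σ * σ) X : GL (Fin 2) F) : Matrix (Fin 2) (Fin 2) F).det =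
      (X : Matrix (Fin 2) (Fin 2) F).det * (σ * σ) (X : Matrix (Fin 2) (Fin 2) F).det := by
    rw [Units.val_mul, Matrix.det_mul, det_gm]
  obtain ⟨s, hs⟩ := sq_mul hcard (σ * σ) (X : Matrix (Fin 2) (Fin 2) F).det
  rw [hs] at hdet
  obtain ⟨D, hD⟩ := cj_inner hdet
  have h5 : a ^ 4 = a * a * (a * a) := by simp only [pow_succ, pow_zero, one_mul, mul_assoc]
  rw [h5]
  exact ⟨D, (h0.mem hcent hD).symm⟩

omit hker hcent in
theorem order_lam {lam : Fˣ} (hlam : ∀ x, x ∈ Subgroup.zpowers lam) : orderOf lam = 80 := by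
  classical
  rw [orderOf_eq_card_of_forall_mem_zpowers hlam, Nat.card_eq_fintype_card, Fintype.card_units, hcard]

end Grp

section Cyc

variable {F : Type*} [Field F]

/-- `diag(μ, 1)` -/
def dg : Fˣ →* GL (Fin 2) F where
  toFun μ := ⟨!![(μ : F), 0; 0, 1], !![((μ⁻¹ : Fˣ) : F), 0; 0, 1], by
    rw [Matrix.mul_fin_two, Matrix.one_fin_two]; simp, by
    rw [Matrix.mul_fin_two, Matrix.one_fin_two]; simp⟩
  map_one' := by
    apply Units.ext
    show !![((1 : Fˣ) : F), 0; 0, 1] = 1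
    rw [Matrix.one_fin_two]; simp
  map_mul' a b := by
    apply Units.ext
    show !![((a * b : Fˣ) : F), 0; 0, 1] = !![(a : F), 0; 0, 1] * !![(b : F), 0; 0, 1]
    rw [Matrix.mul_fin_two]; simp

theorem cj_dg_u (μ : Fˣ) (t : F) : cj (dg μ) (u t) = u ((μ : F) * t) := by
  apply Subtype.ext
  show !![(μ : F), 0; 0, 1] * !![1, t; 0, 1] * !![((μ⁻¹ : Fˣ) : F), 0; 0, 1] = !![1, (μ : F) * t; 0, 1]
  rw [Matrix.mul_fin_two, Matrix.mul_fin_two]
  simp

theorem u_mem_center {t : F} (ht : u t ∈ Subgroup.center (_root_.Matrix.SpecialLinearGroup (Fin 2) F)) : t = 0 := by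
  rw [Matrix.SpecialLinearGroup.mem_center_iff] at ht
  obtain ⟨r, -, hr⟩ := ht
  have h3 := congrFun (congrFun hr 0) 1
  simp only [u, Matrix.scalar_apply, _root_.Fin.isValue, _root_.ne_eq, _root_.zero_ne_one, _root_.not_false_eq_true, _root_.Matrix.diagonal_apply_ne, _root_.Matrix.of_apply, _root_.Matrix.cons_val', _root_.Matrix.cons_val_one, _root_.Matrix.cons_val_fin_one, _root_.Matrix.cons_val_zero] at h3
  exact h3.symm

/-- matrices commuting with `h λ` up to sign -/
theorem diag_of [Fintype F] (hcard : Fintype.card F = 81) {lam : Fˣ} (hlam : ∀ x, x ∈ Subgroup.zpowers lam)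
    {A : GL (Fin 2) F} {σ : F ≃+* F} {z : _root_.Matrix.SpecialLinearGroup (Fin 2) F}
    (hz : z ∈ Subgroup.center (_root_.Matrix.SpecialLinearGroup (Fin 2) F))
    (h0 : (cj A * fld σ : MulAut (_root_.Matrix.SpecialLinearGroup (Fin 2) F)) (h lam) = z * h lam) :
    ∃ μ : Fˣ, (cj A * fld σ : MulAut (_root_.Matrix.SpecialLinearGroup (Fin 2) F)) = cj (dg μ) := by
  rw [Matrix.SpecialLinearGroup.mem_center_iff] at hz
  obtain ⟨r, hr2, hr⟩ := hz
  rw [Fintype.card_fin] at hr2
  have hl0 : (lam : F) ≠ 0 := lam.ne_zero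
  have hr0 : r ≠ 0 := by
    rintro rfl
    simp at hr2
  have hσl0 : σ (lam : F) ≠ 0 := by simpa using hl0
  have horder := order_lam hcard hlam
  obtain ⟨i, hi4, hi⟩ := aut_pow hcard σ
  -- powers of `lam`
  have hpow : ∀ n : ℕ, (lam : F) ^ n = 1 → 80 ∣ n := by
    intro n hn
    rw [← horder]
    apply orderOf_dvd_of_pow_eq_one
    apply Units.ext
    rw [Units.val_pow_eq_pow_val, hn, Units.val_one]
  -- the matrix equation
  have h1 : (A : Matrix (Fin 2) (Fin 2) F) * !![σ (lam : F), 0; 0, σ ((lam : F)⁻¹)] =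
      !![r * (lam : F), 0; 0, r * (lam : F)⁻¹] * (A : Matrix (Fin 2) (Fin 2) F) := by
    have h2 := congrArg Subtype.val h0
    have h3 : ((cj A * fld σ : MulAut (_root_.Matrix.SpecialLinearGroup (Fin 2) F)) (h lam)).1 =
        (A : Matrix (Fin 2) (Fin 2) F) * !![σ (lam : F), 0; 0, σ ((lam : F)⁻¹)] *
          ((A⁻¹ : GL (Fin 2) F) : Matrix (Fin 2) (Fin 2) F) := by
      rw [MulAut.mul_apply]
      show (A : Matrix (Fin 2) (Fin 2) F) * ((fld σ (h lam) : _root_.Matrix.SpecialLinearGroup (Fin 2) F) : Matrix (Fin 2) (Fin 2) F) * _ = _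
      congr 2
      ext k l
      rw [coe_fld_apply]
      (revert k l; simp only [h, _root_.Fin.forall_fin_succ, _root_.Matrix.of_apply, _root_.Matrix.cons_val', _root_.Matrix.cons_val_fin_one, _root_.map_inv₀, Fin.isValue, _root_.Matrix.cons_val_zero, _root_.Matrix.cons_val_succ, _root_.forall_const, _root_.map_zero, _root_.and_self, _root_.implies_true])
    have h4 : (z * h lam).1 = !![r * (lam : F), 0; 0, r * (lam : F)⁻¹] := by
      show (z : Matrix (Fin 2) (Fin 2) F) * !![(lam : F), 0; 0, (lam : F)⁻¹] = _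
      rw [← hr]
      ext k l
      (revert k l; simp only [Matrix.scalar_apply, _root_.Fin.forall_fin_succ, _root_.Matrix.diagonal_mul, _root_.Matrix.of_apply, _root_.Matrix.cons_val', _root_.Matrix.cons_val_fin_one, Fin.isValue, _root_.Matrix.cons_val_zero, _root_.Matrix.cons_val_succ, _root_.forall_const, _root_.MulZeroClass.mul_zero, _root_.and_self, _root_.implies_true])
    rw [h3, h4] at h2
    rw [← h2, Matrix.mul_assoc _ ((A⁻¹ : GL (Fin 2) F) : Matrix (Fin 2) (Fin 2) F), ← Units.val_mul, inv_mul_cancel,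
      Units.val_one, Matrix.mul_one]
  have e00 := congrFun (congrFun h1 0) 0
  have e01 := congrFun (congrFun h1 0) 1
  have e10 := congrFun (congrFun h1 1) 0
  have e11 := congrFun (congrFun h1 1) 1
  simp only [Matrix.mul_apply, Fin.sum_univ_two, Matrix.of_apply, Matrix.cons_val', Matrix.cons_val_zero,
    Matrix.cons_val_one, Matrix.cons_val_fin_one, mul_zero, zero_mul, add_zero, zero_add, map_inv₀] at e00 e01 e10 e11
  set a := (A : Matrix (Fin 2) (Fin 2) F) 0 0 with ha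
  set b := (A : Matrix (Fin 2) (Fin 2) F) 0 1 with hb
  set c := (A : Matrix (Fin 2) (Fin 2) F) 1 0 with hc
  set d := (A : Matrix (Fin 2) (Fin 2) F) 1 1 with hd
  have hprod : σ (lam : F) * lam * r ≠ 1 := by
    intro h5
    have h6 : (σ (lam : F) * lam) ^ 2 = 1 := by
      have : (σ (lam : F) * lam * r) ^ 2 = 1 := by rw [h5, one_pow]
      rwa [mul_pow, hr2, mul_one] at this
    rw [hi, ← pow_succ, ← pow_mul] at h6
    have h7 := hpow _ h6
    interval_cases i <;> omega
  have hb0 : b = 0 := by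
    by_contra hb0
    apply hprod
    have h5 : (σ (lam : F))⁻¹ = r * lam := mul_left_cancel₀ hb0 (by rw [e01]; ring)
    have h6 : σ (lam : F) * (σ (lam : F))⁻¹ = 1 := mul_inv_cancel₀ hσl0
    rw [h5] at h6
    rw [← h6]
    ring
  have hc0 : c = 0 := by
    by_contra hc0
    apply hprod
    have h5 : σ (lam : F) = r * (lam : F)⁻¹ := mul_left_cancel₀ hc0 (by rw [e10]; ring)
    rw [h5, mul_assoc (r), inv_mul_cancel₀ hl0, mul_one, ← pow_two, hr2]
  have hdetA : a * d ≠ 0 := by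
    have h5 := (Matrix.isUnits_det_units A).ne_zero
    rw [Matrix.det_fin_two, ← ha, ← hb, ← hc, ← hd, hb0, zero_mul, sub_zero] at h5
    exact h5
  have ha0 : a ≠ 0 := left_ne_zero_of_mul hdetA
  have hd0 : d ≠ 0 := right_ne_zero_of_mul hdetA
  have h5 : σ (lam : F) = r * lam := mul_left_cancel₀ ha0 (by rw [e00]; ring)
  have hi0 : i = 0 := by
    have h6 : (σ (lam : F)) ^ 2 = (lam : F) ^ 2 := by rw [h5, mul_pow, hr2, one_mul]
    rw [hi, ← pow_mul] at h6
    have h7 : (lam : F) ^ (3 ^ i * 2 - 2) = 1 := by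
      have h8 : 2 ≤ 3 ^ i * 2 := by
        have := Nat.one_le_pow i 3 (by norm_num)
        omega
      have h9 : (lam : F) ^ (3 ^ i * 2 - 2) * (lam : F) ^ 2 = 1 * (lam : F) ^ 2 := by
        rw [← pow_add, Nat.sub_add_cancel h8, h6, one_mul]
      exact mul_right_cancel₀ (pow_ne_zero 2 hl0) h9
    have h8 := hpow _ h7
    interval_cases i <;> omega
  have hσ1 : σ = 1 := by
    apply RingEquiv.ext
    intro x
    rw [hi, hi0, pow_zero, pow_one]
    rfl
  subst hσ1
  rw [map_one, mul_one]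
  refine ⟨Units.mk0 a ha0 / Units.mk0 d hd0, ?_⟩
  have h6 : cj ((dg (Units.mk0 a ha0 / Units.mk0 d hd0))⁻¹ * A) = 1 := by
    refine cj_eq_one_of_scalar (r := d) ?_
    show scalar (Fin 2) d = ((dg (Units.mk0 a ha0 / Units.mk0 d hd0))⁻¹ : GL (Fin 2) F).1 * (A : Matrix (Fin 2) (Fin 2) F)
    have h7 : ((dg (Units.mk0 a ha0 / Units.mk0 d hd0))⁻¹ : GL (Fin 2) F).1 = !![d / a, 0; 0, 1] := by
      show !![((((Units.mk0 a ha0 / Units.mk0 d hd0 : Fˣ))⁻¹ : Fˣ) : F), 0; 0, 1] = _
      simp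
    have h8 : (A : Matrix (Fin 2) (Fin 2) F) = !![a, 0; 0, d] := by
      ext k l
      fin_cases k <;> fin_cases l
      · rfl
      · exact hb0
      · exact hc0
      · rfl
    rw [h7, h8, Matrix.mul_fin_two]
    ext k l
    (revert k l; simp only [Matrix.scalar_apply, ha0, _root_.Fin.forall_fin_succ, _root_.isUnit_iff_ne_zero, _root_.ne_eq, _root_.not_false_eq_true, _root_.IsUnit.div_mul_cancel, _root_.MulZeroClass.mul_zero, _root_.add_zero, _root_.MulZeroClass.zero_mul, _root_.one_mul, _root_.zero_add, _root_.Matrix.of_apply, _root_.Matrix.cons_val', _root_.Matrix.cons_val_fin_one, Fin.isValue, _root_.Matrix.cons_val_zero, _root_.Matrix.cons_val_succ, _root_.Fin.succ_zero_eq_one, _root_.IsEmpty.forall_iff, _root_.and_true, _root_.Matrix.diagonal_apply_eq, _root_.zero_ne_one, _root_.Matrix.diagonal_apply_ne, _root_.and_self, _root_.Fin.succ_ne_zero, _root_.true_and])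
  rw [map_mul, map_inv, inv_mul_eq_one] at h6
  exact h6.symm

variable [Fintype F] {G : Type*} [Group G] {φ : _root_.Matrix.SpecialLinearGroup (Fin 2) F →* G}

theorem cyc81 (hcard : Fintype.card F = 81) (hker : ∀ g, φ g = 1 ↔ g ∈ Subgroup.center (_root_.Matrix.SpecialLinearGroup (Fin 2) F))
    (hcent : ∀ g : G, (∀ s ∈ φ.range, g * s = s * g) → g = 1) (H : Subgroup G)
    (hH : ∀ g ∈ H, ∀ s ∈ φ.range, g * s * g⁻¹ ∈ φ.range) {lam : Fˣ} (hlam : ∀ x, x ∈ Subgroup.zpowers lam) :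
    IsCyclic ↥(H ⊓ Subgroup.centralizer {φ (h lam)}) ∧ Nat.card ↥(H ⊓ Subgroup.centralizer {φ (h lam)}) ∣ 80 := by
  have key : ∀ c : ↥(H ⊓ Subgroup.centralizer {φ (h lam)}), ∃ μ : Fˣ, Ind φ c (cj (dg μ)) := by
    rintro ⟨c, hcH, hcy⟩
    obtain ⟨A, σ, hA⟩ := exists_ind hcard hker (hH c hcH) (fun s hs => by
      have := hH c⁻¹ (H.inv_mem hcH) s hs
      rwa [inv_inv] at this)
    have h1 : c * φ (h lam) * c⁻¹ = φ (h lam) := by
      rw [mul_inv_eq_iff_eq_mul]
      exact Subgroup.mem_centralizer_singleton_iff.1 hcy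
    rw [hA (h lam)] at h1
    have h2 : φ ((cj A * fld σ : MulAut (_root_.Matrix.SpecialLinearGroup (Fin 2) F)) (h lam) * (h lam)⁻¹) = 1 := by
      rw [map_mul, map_inv, h1, mul_inv_cancel]
    obtain ⟨μ, hμ⟩ := diag_of hcard hlam ((hker _).1 h2) (inv_mul_cancel_right _ _).symm
    exact ⟨μ, hμ ▸ hA⟩
  choose f hf using key
  have huniq : ∀ (c : G) (μ μ' : Fˣ), Ind φ c (cj (dg μ)) → Ind φ c (cj (dg μ')) → μ = μ' := by
    intro c μ μ' h1 h2
    have h3 := h1 (u 1)
    rw [h2 (u 1), cj_dg_u, cj_dg_u, mul_one, mul_one] at h3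
    have h4 : φ (u ((μ : F) - μ')) = 1 := by
      rw [sub_eq_add_neg, Cfsg.Agent.H943.SL2Rel.u_add, Cfsg.Agent.H943.SL2Rel.u_neg, map_mul, map_inv, h3, mul_inv_cancel]
    have h5 := u_mem_center ((hker _).1 h4)
    exact Units.ext (sub_eq_zero.1 h5)
  let g : ↥(H ⊓ Subgroup.centralizer {φ (h lam)}) →* Fˣ := MonoidHom.mk' f (by
    intro a b
    apply huniq (a * b : G) _ _ (hf (a * b))
    rw [map_mul, map_mul]
    exact (hf a).mul (hf b))
  have hginj : Function.Injective g := by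
    rw [injective_iff_map_eq_one]
    intro c hc
    have h1 := hf c
    change f c = 1 at hc
    rw [hc, map_one, map_one] at h1
    apply Subtype.ext
    apply hcent
    rintro _ ⟨x, rfl⟩
    have h2 := h1 x
    rw [MulAut.one_apply, mul_inv_eq_iff_eq_mul] at h2
    exact h2
  refine ⟨isCyclic_of_injective g hginj, ?_⟩
  have h1 := Subgroup.card_dvd_of_injective g hginj
  have h2 : Nat.card Fˣ = 80 := by
    classical
    rw [Nat.card_eq_fintype_card, Fintype.card_units, hcard]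
  rwa [h2] at h1

end Cyc

end Cfsg.Agent.H434.E8L

private theorem dce_ada2e9371a22 : _root_.True := by
  try have : _root_.True := by simp only [_root_.Cfsg.Agent.H943.SL2Rel.h.eq_1]
  try have : _root_.True := by simp only [_root_.Cfsg.Agent.H943.SL2Rel.u.eq_1]
  exact _root_.True.intro
end
end
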